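/-
Root elements of ²E₆ as fixed words in the ambient root elements, and linear functionals on them.
-/
import Mathlib
import Cfsg.Agent.Lib.Known.RootLift.E6Unip
import Cfsg.Agent.Lib.Known.LieDegree.Laced
import Cfsg.Agent.Lib.Chev.Data.E6

set_option autoImplicit false
set_option maxRecDepth 20000
set_option maxHeartbeats 1000000
set_option linter.unusedSectionVars false

namespace CfsgLib.Known.TwLieDegree

open Cfsg.Lie CfsgLib.Chev CfsgLib.Chev.Table CfsgLib.Known.RootLift.E6

universe v

/-- The tables of the ambient group. -/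
abbrev tb : Tab := DataE6.tab

/-- The graph map on the roots. -/
def rho (r : ℕ) : ℕ := parE6.rho r

/-- Pairwise commuting distinct positive roots. -/
def commList (L : List ℕ) : Bool :=
  L.all (fun r => Nat.ble 36 r && Nat.blt r 72) && decide L.Nodup &&
    L.all fun r => L.all fun s => Nat.beq (tb.ent r s) 0 && !(s == tb.neg r)

/-- Classes whose roots commute pairwise. -/
def clsList (cs : List ℕ) : Bool := cs.all validB && commList (cs.flatMap orb)

theorem lctxE6 : LieDegree.LCtx.{v} chevE6 tb :=
  LieDegree.lctx_of_tables DataE6.facts (DataE6.facts.commF_of_short DataE6.short) DataE6.chk_arrays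
    DataE6.chk_chain DataE6.chk_pairs DataE6.chk_roots DataE6.laced_pairs

theorem nroots72 : chevE6.nroots = 72 ∧ chevE6.nroots / 2 = 36 := by decide +kernel

theorem commList_spec {L : List ℕ} (h : commList L = true) :
    (∀ r ∈ L, 36 ≤ r ∧ r < 72) ∧ L.Nodup ∧ ∀ r ∈ L, ∀ s ∈ L, tb.ent r s = 0 ∧ s ≠ tb.neg r := by
  simp only [commList, Bool.and_eq_true, List.all_eq_true, Nat.ble_eq, blt_iff,
    decide_eq_true_eq, Bool.not_eq_true', beq_eq_false_iff_ne] at h
  exact ⟨h.1.1, h.1.2, fun r hr s hs => ⟨Nat.eq_of_beq_eq_true (h.2 r hr s hs).1, (h.2 r hr s hs).2⟩⟩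

theorem commList_coord : ∀ {L : List ℕ}, commList L = true → coordB chevE6 L = true
  | [], _ => rfl
  | i :: L, h => by
    obtain ⟨h1, h2, h3⟩ := commList_spec h
    have hL : commList L = true := by
      simp only [commList, Bool.and_eq_true, List.all_eq_true, Nat.ble_eq, blt_iff,
        decide_eq_true_eq, Bool.not_eq_true', beq_eq_false_iff_ne]
      exact ⟨⟨fun r hr => h1 r (List.mem_cons_of_mem _ hr), (List.nodup_cons.1 h2).2⟩,
        fun r hr s hs => ⟨by rw [(h3 r (List.mem_cons_of_mem _ hr) s (List.mem_cons_of_mem _ hs)).1]; rfl,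
          (h3 r (List.mem_cons_of_mem _ hr) s (List.mem_cons_of_mem _ hs)).2⟩⟩
    simp only [coordB, Bool.and_eq_true, decide_eq_true_eq, List.all_eq_true, bne_iff_ne,
      Bool.not_eq_true', commList_coord hL]
    obtain ⟨a, b⟩ := h1 i List.mem_cons_self
    have hin : i < chevE6.nroots := nroots72.1.symm ▸ b
    refine ⟨⟨⟨⟨hin, nroots72.2.symm ▸ a⟩, ?_⟩, fun j hj => ⟨?_, fun c hc => ?_⟩⟩, trivial⟩
    · simpa using (List.nodup_cons.1 h2).1
    · rw [neg_eq DataE6.chk_arrays hin]
      exact (h3 i List.mem_cons_self j (List.mem_cons_of_mem _ hj)).2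
    · rw [lctxE6.{0}.terms_nil hin
        (nroots72.1.symm ▸ (h1 j (List.mem_cons_of_mem _ hj)).2)
        (h3 i List.mem_cons_self j (List.mem_cons_of_mem _ hj)).1] at hc
      simp at hc

variable {K : Type v} [Field K]

theorem xU_commute {r s : ℕ} (hr : r < 72) (hs : s < 72) (h : tb.ent r s = 0) (hn : s ≠ tb.neg r)
    (t u : K) : Commute (xU chevE6 r t) (xU chevE6 s u) := by
  have hr' : r < chevE6.nroots := nroots72.1.symm ▸ hr
  have hs' : s < chevE6.nroots := nroots72.1.symm ▸ hs
  have := congrArg Subtype.val (lctxE6.X_commute hr' hs' h hn t u).eq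
  simpa only [Commute, SemiconjBy, Subgroup.coe_mul, lctxE6.X_val hr', lctxE6.X_val hs'] using this

/-- The value of a functional on a word. -/
def lam (a : ℕ → K) (w : List (ℕ × K)) : K := (w.map fun p => a p.1 * p.2).sum

theorem lam_append (a : ℕ → K) (w w' : List (ℕ × K)) : lam a (w ++ w') = lam a w + lam a w' := by
  simp [lam]

theorem lam_cons (a : ℕ → K) (p : ℕ × K) (w : List (ℕ × K)) :
    lam a (p :: w) = a p.1 * p.2 + lam a w := by
  simp [lam]

theorem wU_cons' (p : ℕ × K) (w : List (ℕ × K)) :
    wU chevE6 (p :: w) = xU chevE6 p.1 p.2 * wU chevE6 w := by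
  simp [wU]

/-- The coordinate of a word at a root. -/
def csum (w : List (ℕ × K)) (k : ℕ) : K := (w.map fun p => if p.1 = k then p.2 else 0).sum

theorem csum_cons (p : ℕ × K) (w : List (ℕ × K)) (k : ℕ) :
    csum (p :: w) k = (if p.1 = k then p.2 else 0) + csum w k := by
  simp [csum]

/-- The word with given coordinates along a list. -/
def wordL (L : List ℕ) (f : ℕ → K) : List (ℕ × K) := L.map fun k => (k, f k)

theorem wU_wordL_add {L : List ℕ} (hlt : ∀ r ∈ L, r < 72)
    (hc : ∀ r ∈ L, ∀ s ∈ L, tb.ent r s = 0 ∧ s ≠ tb.neg r) (f g : ℕ → K) :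
    wU chevE6 (wordL L (fun k => f k + g k)) = wU chevE6 (wordL L f) * wU chevE6 (wordL L g) := by
  induction L with
  | nil => simp [wordL, wU]
  | cons i L ih =>
    have ih' := ih (fun r hr => hlt r (List.mem_cons_of_mem _ hr))
      (fun r hr s hs => hc r (List.mem_cons_of_mem _ hr) s (List.mem_cons_of_mem _ hs))
    have hi : i < chevE6.nroots := nroots72.1.symm ▸ hlt i List.mem_cons_self
    have hcm : Commute (wU chevE6 (wordL L f)) (xU chevE6 i (g i)) := by
      refine Commute.list_prod_left _ _ fun x hx => ?_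
      simp only [wordL, List.map_map, List.mem_map, Function.comp_apply] at hx
      obtain ⟨k, hk, rfl⟩ := hx
      obtain ⟨h1, h2⟩ := hc k (List.mem_cons_of_mem _ hk) i List.mem_cons_self
      exact xU_commute (hlt k (List.mem_cons_of_mem _ hk)) (hlt i List.mem_cons_self) h1 h2 _ _
    simp only [wordL, List.map_cons, wU_cons'] at ih' hcm ⊢
    rw [ih', ← DataE6.facts.xU_add hi, mul_assoc, mul_assoc]
    congr 1
    rw [← mul_assoc, ← mul_assoc, hcm.eq]

theorem wU_wordL_zero {L : List ℕ} (hlt : ∀ r ∈ L, r < 72) :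
    wU chevE6 (wordL L (fun _ => (0 : K))) = 1 := by
  induction L with
  | nil => simp [wordL, wU]
  | cons i L ih =>
    have hi : i < chevE6.nroots := nroots72.1.symm ▸ hlt i List.mem_cons_self
    have ih' := ih fun r hr => hlt r (List.mem_cons_of_mem _ hr)
    simp only [wordL, List.map_cons, wU_cons'] at ih' ⊢
    rw [ih', DataE6.facts.xU_zero hi, one_mul]

theorem wU_wordL_single {L : List ℕ} (hlt : ∀ r ∈ L, r < 72) (hnd : L.Nodup) {k : ℕ} (hk : k ∈ L)
    (c : K) : wU chevE6 (wordL L (fun j => if k = j then c else 0)) = xU chevE6 k c := by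
  induction L with
  | nil => simp at hk
  | cons i L ih =>
    obtain ⟨hiL, hnd'⟩ := List.nodup_cons.1 hnd
    have hlt' : ∀ r ∈ L, r < 72 := fun r hr => hlt r (List.mem_cons_of_mem _ hr)
    have hi : i < chevE6.nroots := nroots72.1.symm ▸ hlt i List.mem_cons_self
    rcases List.mem_cons.1 hk with rfl | hk'
    · have e : wordL L (fun j => if k = j then c else 0) = wordL L (fun _ => (0 : K)) :=
        List.map_congr_left fun j hj => by
          show (j, if k = j then c else 0) = (j, (0 : K))
          rw [if_neg (fun h : k = j => hiL (h ▸ hj))]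
      rw [show wordL (k :: L) (fun j => if k = j then c else 0) =
        (k, c) :: wordL L (fun j => if k = j then c else 0) by simp [wordL], wU_cons', e,
        wU_wordL_zero hlt', mul_one]
    · have hne : k ≠ i := fun h => hiL (h ▸ hk')
      rw [show wordL (i :: L) (fun j => if k = j then c else 0) =
        (i, (0 : K)) :: wordL L (fun j => if k = j then c else 0) by simp [wordL, hne], wU_cons',
        ih hlt' hnd' hk', DataE6.facts.xU_zero hi, one_mul]

theorem lam_wordL_add (a : ℕ → K) (L : List ℕ) (f g : ℕ → K) :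
    lam a (wordL L (fun k => f k + g k)) = lam a (wordL L f) + lam a (wordL L g) := by
  induction L with
  | nil => simp [lam, wordL]
  | cons i L ih => simp only [wordL, List.map_cons, lam_cons] at ih ⊢; rw [ih]; ring

theorem lam_wordL_single (a : ℕ → K) {L : List ℕ} (hnd : L.Nodup) {k : ℕ} (hk : k ∈ L) (c : K) :
    lam a (wordL L (fun j => if k = j then c else 0)) = a k * c := by
  rw [lam, wordL, List.map_map, ← List.sum_toFinset _ hnd]
  simp only [Function.comp_apply, mul_ite, mul_zero]
  rw [Finset.sum_ite_eq, if_pos (List.mem_toFinset.2 hk)]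

/-- A word over commuting roots is the word of its coordinates. -/
theorem wU_eq_coords {L : List ℕ} (h : commList L = true) :
    ∀ {w : List (ℕ × K)}, (∀ p ∈ w, p.1 ∈ L) →
      wU chevE6 w = wU chevE6 (wordL L (csum w)) ∧ ∀ a : ℕ → K, lam a w = lam a (wordL L (csum w)) := by
  obtain ⟨h1, h2, h3⟩ := commList_spec h
  intro w
  induction w with
  | nil =>
    intro _
    have e : csum ([] : List (ℕ × K)) = fun _ => 0 := by funext k; simp [csum]
    rw [e, wU_wordL_zero fun r hr => (h1 r hr).2]
    exact ⟨rfl, fun a => by simp [lam, wordL, List.map_map, Function.comp_def]⟩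
  | cons p w ih =>
    intro hw
    obtain ⟨e1, e2⟩ := ih fun x hx => hw x (List.mem_cons_of_mem _ hx)
    have hp := hw p List.mem_cons_self
    have e : csum (p :: w) = fun k => (if p.1 = k then p.2 else 0) + csum w k :=
      funext (csum_cons p w)
    refine ⟨?_, fun a => ?_⟩
    · rw [e, wU_wordL_add (fun r hr => (h1 r hr).2) h3,
        wU_wordL_single (fun r hr => (h1 r hr).2) h2 hp, ← e1, wU_cons']
    · rw [e, lam_wordL_add, lam_wordL_single a h2 hp, ← e2, lam_cons]

variable [Fintype K] {q : ℕ} (C : TwE6.Ctx K q)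
include C

/-- The word of a class element. -/
def orbW (r : ℕ) (t : K) : List (ℕ × K) :=
  if rho r = r then [(r, t)] else [(r, t), (rho r, (parE6.eps r : K) * C.f t)]

theorem orbW_val (r : ℕ) (t : K) : elt C r t = wU chevE6 (orbW C r t) := by
  rw [elt, orbW, coef_eq]
  unfold rho
  split <;> simp [wU]

theorem orbW_mem (r : ℕ) (t : K) : ∀ p ∈ orbW C r t, p.1 ∈ orb r := by
  intro p hp
  rw [orbW] at hp
  rw [orb]
  unfold rho at hp
  split at hp <;> rename_i e
  · rw [if_pos e]; simp at hp; simp [hp]
  · rw [if_neg e]; simp at hp; rcases hp with rfl | rfl <;> simp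

/-- A family compatible with the graph map at a root. -/
def Inv (a : ℕ → K) (r : ℕ) : Prop := a (rho r) = (parE6.eps r : K) * C.f (a r)

/-- Compatible families are the coordinates of the class elements. -/
theorem wordL_classes {cs : List ℕ} {f : ℕ → K} (hf : ∀ r ∈ cs, Inv C f r) :
    wordL (cs.flatMap orb) f = cs.flatMap fun r => orbW C r (f r) := by
  induction cs with
  | nil => simp [wordL]
  | cons r cs ih =>
    have e : wordL (orb r) f = orbW C r (f r) := by
      by_cases he : rho r = r
      · rw [orbW, if_pos he, orb, if_pos (show parE6.rho r = r from he)]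
        simp [wordL]
      · have := hf r List.mem_cons_self
        rw [orbW, if_neg he, orb, if_neg (show ¬ parE6.rho r = r from he)]
        simp only [wordL, List.map_cons, List.map_nil]
        rw [show f (parE6.rho r) = f (rho r) from rfl, this]
        rfl
    rw [List.flatMap_cons, List.flatMap_cons, ← ih fun x hx => hf x (List.mem_cons_of_mem _ hx), ← e]
    simp [wordL]

theorem inv_par {f : ℕ → K} {r : ℕ} (hf : Inv C f r) : f r ∈ par C r := fun e => by
  have := hf
  rw [Inv, show rho r = r from e] at this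
  exact this.symm

/-- The element with given compatible coordinates. -/
noncomputable def clsEl (cs : List ℕ) (f : ℕ → K) : ↥(twistedE6 K q) :=
  (cs.map fun r => eltG C r (f r)).prod

theorem clsEl_val {cs : List ℕ} (hv : ∀ r ∈ cs, validB r = true) {f : ℕ → K}
    (hf : ∀ r ∈ cs, Inv C f r) :
    (clsEl C cs f : GL chevE6.Idx K) = wU chevE6 (wordL (cs.flatMap orb) f) := by
  rw [wordL_classes C hf]
  induction cs with
  | nil => simp [clsEl, wU]
  | cons r cs ih =>
    have ih' := ih (fun x hx => hv x (List.mem_cons_of_mem _ hx))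
      (fun x hx => hf x (List.mem_cons_of_mem _ hx))
    rw [clsEl, List.map_cons, List.prod_cons, Subgroup.coe_mul,
      eltG_val C (hv r List.mem_cons_self) (inv_par C (hf r List.mem_cons_self)), orbW_val,
      List.flatMap_cons, wU_append]
    rw [clsEl] at ih'
    rw [ih']

/-- The coordinates of a fixed word are compatible. -/
theorem fixed_coords {cs : List ℕ} (h : clsList cs = true) {f : ℕ → K}
    (hg : wU chevE6 (wordL (cs.flatMap orb) f) ∈ twistedE6 K q) : ∀ r ∈ cs, Inv C f r := by
  simp only [clsList, Bool.and_eq_true, List.all_eq_true] at h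
  obtain ⟨hv, hc⟩ := h
  set L := cs.flatMap orb with hL
  obtain ⟨h1, h2, h3⟩ := commList_spec hc
  let φ : ℕ × K → ℕ × K := fun p => (rho p.1, (parE6.eps p.1 : K) * C.f p.2)
  have himgL : ∀ L' : List ℕ, (∀ r ∈ L', r < 72) →
      Img C.σ (wU chevE6 (wordL L' f)) (wU chevE6 ((wordL L' f).map φ)) := by
    intro L'
    induction L' with
    | nil => intro _; simpa [wordL, wU] using Img.one (σ := C.σ)
    | cons i L' ih =>
      intro hlt
      simp only [wordL, List.map_cons, wU_cons']
      exact (RootLift.E6.img C (hlt i List.mem_cons_self) (f i)).mul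
        (ih fun r hr => hlt r (List.mem_cons_of_mem _ hr))
  have himg := himgL L fun r hr => (h1 r hr).2
  have hmem : ∀ p ∈ (wordL L f).map φ, p.1 ∈ L := by
    simp only [wordL, List.map_map, List.mem_map, Function.comp_apply, φ]
    rintro _ ⟨k, hk, rfl⟩
    obtain ⟨r, hr, hkr⟩ := List.mem_flatMap.1 hk
    refine List.mem_flatMap.2 ⟨r, hr, ?_⟩
    obtain ⟨-, -, hinv, -⟩ := valid C (hv r hr)
    rw [orb] at hkr ⊢
    unfold rho
    split at hkr <;> rename_i e
    · simp at hkr; subst hkr; simp [e]
    · rw [if_neg e]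
      simp at hkr
      rcases hkr with rfl | rfl <;> simp [hinv]
  have e := (himg.unique (mem_fixS.1 (C.sys.le_fix hg))).symm.trans (wU_eq_coords hc hmem).1
  have hz' : ∀ (L' : List ℕ) (g : ℕ → K), wordL L' g = L'.zip (L'.map g) := fun L' g => by
    induction L' with
    | nil => rfl
    | cons i L' ih => simp only [wordL, List.map_cons, List.zip_cons_cons] at ih ⊢; rw [ih]
  have hz := hz' L
  nth_rewrite 1 [hz] at e
  rw [hz (csum _)] at e
  have e2 := DataE6.facts.coords_unique C.sig.hC (commList_coord hc) (List.length_map _) (List.length_map _) e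
  intro r hr
  have hrL : r ∈ L := List.mem_flatMap.2 ⟨r, hr, by rw [orb]; split <;> simp⟩
  have hrL' : rho r ∈ L := List.mem_flatMap.2 ⟨r, hr, by
    rw [orb]; unfold rho; split <;> rename_i e <;> simp [e]⟩
  have ev := List.map_inj_left.1 e2 (rho r) hrL'
  rw [Inv, ev]
  simp only [csum, wordL, List.map_map]
  rw [← List.sum_toFinset _ h2]
  simp only [Function.comp_apply, φ]
  rw [Finset.sum_eq_single r (fun k hk hne => ?_) (fun hn => absurd (List.mem_toFinset.2 hrL) hn),
    if_pos rfl]
  rw [if_neg]
  intro he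
  exact hne (parE6_ok.rho_inj k (nroots72.1.symm ▸ (h1 k (List.mem_toFinset.1 hk)).2) r
    (nroots72.1.symm ▸ (h1 r hrL).2) he)

/-- A fixed word over the roots of commuting classes is the product of class elements. -/
theorem fixed_word {cs : List ℕ} (h : clsList cs = true) {w : List (ℕ × K)}
    (hw : ∀ p ∈ w, p.1 ∈ cs.flatMap orb) {g : ↥(twistedE6 K q)}
    (hg : (g : GL chevE6.Idx K) = wU chevE6 w) :
    ∃ f : ℕ → K, (∀ r ∈ cs, Inv C f r) ∧ g = clsEl C cs f ∧
      ∀ a : ℕ → K, lam a w = (cs.map fun r => lam a (orbW C r (f r))).sum := by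
  have h' := h
  simp only [clsList, Bool.and_eq_true, List.all_eq_true] at h'
  obtain ⟨e1, e2⟩ := wU_eq_coords h'.2 hw
  have hf := fixed_coords C h (by rw [← e1, ← hg]; exact g.2)
  refine ⟨csum w, hf, Subtype.ext (by rw [clsEl_val C h'.1 hf, hg, e1]), fun a => ?_⟩
  rw [e2, wordL_classes C hf]
  clear hw e1 e2 h h' hf
  induction cs with
  | nil => simp [lam]
  | cons r cs ih => rw [List.flatMap_cons, lam_append, ih, List.map_cons, List.sum_cons]

end CfsgLib.Known.TwLieDegree
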