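/-
Simultaneous eigenvectors of root groups of ²E₆ described by linear functionals on the ambient roots.
-/
import Mathlib
import Cfsg.Agent.Lib.Known.TwLieDegree.Base
import Cfsg.Agent.Lib.Known.LieDegree.Heis
import Cfsg.Agent.Lib.Chev.Twist.E6Main

set_option autoImplicit false
set_option maxRecDepth 20000
set_option maxHeartbeats 1000000
set_option linter.unusedSectionVars false

namespace CfsgLib.Known.TwLieDegree

open Cfsg.Lie CfsgLib.Chev CfsgLib.Chev.Table CfsgLib.Known.RootLift.E6

universe v

variable {K : Type v} [Field K] [Fintype K]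

theorem exists_psi : ∃ ψ : AddChar K ℂ, ψ 1 ≠ 1 := by
  obtain ⟨ψ, hψ⟩ := LieDegree.addChar_ne_one_exists (K := K)
  obtain ⟨x, hx⟩ : ∃ x, ψ x ≠ 1 := by
    by_contra! h
    exact hψ (DFunLike.ext _ _ fun t => by simp [h])
  exact ⟨AddChar.mulShift ψ x, by rwa [AddChar.mulShift_apply, mul_one]⟩

/-- A fixed additive character. -/
noncomputable def Psi (K : Type v) [Field K] [Fintype K] : AddChar K ℂ := (exists_psi (K := K)).choose

theorem psi_one : Psi K (1 : K) ≠ 1 := (exists_psi (K := K)).choose_spec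

/-- The action of one root on a functional. -/
def sh (d : ℕ) (u : K) (a : ℕ → K) (r : ℕ) : K :=
  match tb.tg d r with
  | none => a r
  | some k => a r + (tb.nn d r : K) * u * a k

/-- The action of a word on a functional. -/
def shL (ds : List (ℕ × K)) (a : ℕ → K) : ℕ → K := ds.foldl (fun a p => sh p.1 p.2 a) a

/-- Conjugation of a word by one root element. -/
def conv (d : ℕ) (u : K) (w : List (ℕ × K)) : List (ℕ × K) :=
  w.flatMap fun p => match tb.tg d p.1 with
    | none => [p]
    | some k => [p, (k, (tb.nn d p.1 : K) * u * p.2)]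

/-- Conjugation of a word by a word. -/
def convL (ds : List (ℕ × K)) (w : List (ℕ × K)) : List (ℕ × K) :=
  ds.foldr (fun p w => conv p.1 p.2 w) w

/-- The roots of a conjugated word. -/
def imgs (d : ℕ) (R : List ℕ) : List ℕ :=
  R.flatMap fun r => match tb.tg d r with
    | none => [r]
    | some k => [r, k]

theorem lam_conv (a : ℕ → K) (d : ℕ) (u : K) : ∀ w : List (ℕ × K), lam a (conv d u w) = lam (sh d u a) w := by
  intro w
  induction w with
  | nil => simp [lam, conv]
  | cons p w ih =>
    rw [show conv d u (p :: w) = (match tb.tg d p.1 with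
      | none => [p]
      | some k => [p, (k, (tb.nn d p.1 : K) * u * p.2)]) ++ conv d u w from rfl, lam_append, ih,
      lam_cons]
    unfold sh
    rcases tb.tg d p.1 with _ | k
    · simp [lam]
    · simp [lam]; ring

theorem lam_convL : ∀ (ds : List (ℕ × K)) (a : ℕ → K) (w : List (ℕ × K)),
    lam a (convL ds w) = lam (shL ds a) w
  | [], a, w => rfl
  | p :: ds, a, w => by
    show lam a (conv p.1 p.2 (convL ds w)) = lam (shL ds (sh p.1 p.2 a)) w
    rw [lam_conv, lam_convL ds]

theorem conv_roots {d : ℕ} {u : K} {w : List (ℕ × K)} {R : List ℕ} (hw : ∀ p ∈ w, p.1 ∈ R) :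
    ∀ p ∈ conv d u w, p.1 ∈ imgs d R := by
  intro p hp
  obtain ⟨x, hx, hp⟩ := List.mem_flatMap.1 hp
  refine List.mem_flatMap.2 ⟨x.1, hw x hx, ?_⟩
  rcases h : tb.tg d x.1 with _ | k <;> simp only [h] at hp ⊢
  · simp at hp; simp [hp]
  · simp at hp; rcases hp with rfl | rfl <;> simp

theorem xU_conv {d : ℕ} (hd : d < 72) (u : K) : ∀ {w : List (ℕ × K)},
    (∀ p ∈ w, p.1 < 72 ∧ p.1 ≠ tb.neg d) →
      xU chevE6 d u * wU chevE6 w * (xU chevE6 d u)⁻¹ = wU chevE6 (conv d u w) := by
  intro w
  induction w with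
  | nil => intro _; simp [conv, wU]
  | cons p w ih =>
    intro h
    obtain ⟨hp, hn⟩ := h p List.mem_cons_self
    have hd' : d < chevE6.nroots := nroots72.1.symm ▸ hd
    have hp' : p.1 < chevE6.nroots := nroots72.1.symm ▸ hp
    have key : xU chevE6 d u * xU chevE6 p.1 p.2 * (xU chevE6 d u)⁻¹ =
        wU chevE6 (match tb.tg d p.1 with
          | none => [p]
          | some k => [p, (k, (tb.nn d p.1 : K) * u * p.2)]) := by
      rcases hT : tb.tg d p.1 with _ | k
      · have := congrArg Subtype.val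
          (lctxE6.X_conj_same hd' hp' (lctxE6.{v}.tg_none hT) hn u p.2)
        simpa only [Subgroup.coe_mul, Subgroup.coe_inv, lctxE6.X_val hd', lctxE6.X_val hp', wU,
          List.map_cons, List.map_nil, List.prod_cons, List.prod_nil, mul_one] using this
      · obtain ⟨c, -, rfl, hc⟩ := lctxE6.X_conj (K := K) hd' hp' hT
        have hk : k < chevE6.nroots := (lctxE6.{v}.tg_spec hd' hp' hT).2.2.1
        have := congrArg Subtype.val (hc u p.2)
        simpa only [Subgroup.coe_mul, Subgroup.coe_inv, lctxE6.X_val hd', lctxE6.X_val hp',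
          lctxE6.X_val hk, wU, List.map_cons, List.map_nil, List.prod_cons, List.prod_nil,
          mul_one] using this
    rw [wU_cons', show conv d u (p :: w) = _ ++ conv d u w from rfl, wU_append,
      ← ih fun x hx => h x (List.mem_cons_of_mem _ hx), ← key]
    group

/-- The least root of a class. -/
def clsRep (r : ℕ) : ℕ := if rho r < r then rho r else r

/-- The roots reached from a class by conjugation with the class of `δ`. -/
def reach (δ r : ℕ) : List ℕ := (orb δ).foldr (fun d R => imgs d R) (orb r)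

/-- The classes reached. -/
def reachCls (δ r : ℕ) : List ℕ := ((reach δ r).map clsRep).dedup

/-- The checks for a conjugation of one class by another. -/
def convOK (S : List ℕ) (δ r : ℕ) : Bool :=
  let cs := reachCls δ r
  clsList cs && cs.all (fun c => S.contains c) &&
    (reach δ r).all (fun k => (cs.flatMap orb).contains k) &&
    ((orb δ).foldr (fun d acc => (imgs d acc.1, acc.2 && acc.1.all fun k => Nat.blt k 72 && !(k == tb.neg d)))
      (orb r, true)).2

/-- The class of `δ` maps the classes of `S` into `S`. -/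
def stepB (S : List ℕ) (δ : ℕ) : Bool :=
  validB δ && S.all fun r => validB r && convOK S δ r

variable {q : ℕ} (C : TwE6.Ctx K q)
include C

theorem exists_tr_one : ∃ x : K, x + C.f x = 1 := by
  obtain ⟨μ, hμ⟩ : ∃ μ : K, μ + C.f μ ≠ 0 := by
    by_contra! h
    have h1 := h 1
    rw [map_one] at h1
    have hid : ∀ t : K, C.f t = t := fun t => by
      linear_combination (h t) - t * h1
    have hq := C.q_gt
    have hc := card_field_fix hq C.card
    have : Nat.card {t : K // t ^ q = t} = Nat.card K :=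
      Nat.card_congr (Equiv.subtypeUnivEquiv fun t => (C.hf t).symm.trans (hid t))
    rw [hc, Nat.card_eq_fintype_card, C.card] at this
    nlinarith
  refine ⟨μ / (μ + C.f μ), ?_⟩
  rw [map_div₀, map_add, C.pow_two, add_comm (C.f μ) μ, ← add_div, div_self hμ]

theorem psi_nondeg {a : ℕ → K} {r : ℕ} (hr : validB r = true) (ha : Inv C a r) (hne : a r ≠ 0) :
    ∃ t ∈ par C r, Psi K (lam a (orbW C r t)) ≠ 1 := by
  obtain ⟨h1, -⟩ := valid C hr
  have he := eps_sq C h1
  by_cases hρ : rho r = r
  · refine ⟨(a r)⁻¹, fun e => ?_, ?_⟩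
    · have h := ha
      rw [Inv, hρ] at h
      conv_rhs => rw [h]
      have e0 : (parE6.eps r : K) ≠ 0 := left_ne_zero_of_mul_eq_one he
      rw [map_inv₀, mul_inv, inv_eq_of_mul_eq_one_right he]
    · rw [orbW, if_pos hρ]
      simpa [lam, mul_inv_cancel₀ hne] using psi_one (K := K)
  · obtain ⟨x, hx⟩ := exists_tr_one C
    refine ⟨x / a r, fun e => absurd e hρ, ?_⟩
    rw [orbW, if_neg hρ]
    simp only [lam, List.map_cons, List.map_nil, List.sum_cons, List.sum_nil, add_zero,
      map_div₀]
    rw [show a (rho r) = (parE6.eps r : K) * C.f (a r) from ha]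
    rw [mul_div_cancel₀ _ hne]
    have : C.f (a r) ≠ 0 := (map_ne_zero C.f).2 hne
    rw [show (parE6.eps r : K) * C.f (a r) * ((parE6.eps r : K) * (C.f x / C.f (a r))) =
      ((parE6.eps r : K) * (parE6.eps r : K)) * C.f x by field_simp, he, one_mul, hx]
    exact psi_one

theorem lam_sub (a b : ℕ → K) (w : List (ℕ × K)) :
    lam (fun k => a k - b k) w = lam a w - lam b w := by
  induction w with
  | nil => simp [lam]
  | cons p w ih => rw [lam_cons, lam_cons, lam_cons, ih]; ring

/-- A compatible functional is determined by the character on a class. -/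
theorem eq_of_psi {a b : ℕ → K} {r : ℕ} (hr : validB r = true) (ha : Inv C a r) (hb : Inv C b r)
    (h : ∀ t ∈ par C r, Psi K (lam a (orbW C r t)) = Psi K (lam b (orbW C r t))) : a r = b r := by
  by_contra hne
  obtain ⟨t, ht, hp⟩ := psi_nondeg C (a := fun k => a k - b k) hr
    (show a (rho r) - b (rho r) = (parE6.eps r : K) * C.f (a r - b r) by
      rw [map_sub, show a (rho r) = _ from ha, show b (rho r) = _ from hb]; ring) (sub_ne_zero.2 hne)
  refine hp ?_
  rw [lam_sub C, sub_eq_add_neg, AddChar.map_add_eq_mul, h t ht, ← AddChar.map_add_eq_mul,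
    add_neg_cancel, AddChar.map_zero_eq_one]

variable {V : Type*} [AddCommGroup V] [Module ℂ V] (π : Representation ℂ ↥(twistedE6 K q) V)

/-- A simultaneous eigenvector of the classes in `S`. -/
def Eigen (S : List ℕ) (a : ℕ → K) (v : V) : Prop :=
  ∀ r ∈ S, validB r = true → ∀ t ∈ par C r, π (eltG C r t) v = Psi K (lam a (orbW C r t)) • v

/-- The vectors fixed by the classes in `S`. -/
def fixedS (S : List ℕ) : Submodule ℂ V where
  carrier := {v | ∀ r ∈ S, validB r = true → ∀ t ∈ par C r, π (eltG C r t) v = v}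
  add_mem' {a b} ha hb r hr hv t ht := by rw [map_add, ha r hr hv t ht, hb r hr hv t ht]
  zero_mem' r _ _ t _ := map_zero _
  smul_mem' c a ha r hr hv t ht := by rw [map_smul, ha r hr hv t ht]

theorem mem_fixedS {S : List ℕ} {v : V} :
    v ∈ fixedS C π S ↔ ∀ r ∈ S, validB r = true → ∀ t ∈ par C r, π (eltG C r t) v = v := Iff.rfl

theorem fixedS_anti {S S' : List ℕ} (h : ∀ r ∈ S', r ∈ S) : fixedS C π S ≤ fixedS C π S' :=
  fun _ hv r hr => hv r (h r hr)

theorem lam_zero (w : List (ℕ × K)) : lam (fun _ => (0 : K)) w = 0 := by simp [lam]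

theorem fixed_iff {S : List ℕ} {v : V} : v ∈ fixedS C π S ↔ Eigen C π S (fun _ => 0) v := by
  simp [mem_fixedS, Eigen, lam_zero C, AddChar.map_zero_eq_one]

theorem pi_ne_zero (g : ↥(twistedE6 K q)) {v : V} (hv : v ≠ 0) : π g v ≠ 0 := fun h => hv (by
  have := congrArg (π g⁻¹) h
  rwa [map_zero, ← Module.End.mul_apply, ← map_mul, inv_mul_cancel, map_one, Module.End.one_apply]
    at this)

/-- A fixed word over commuting classes acts by its functional. -/
theorem regroup {S : List ℕ} {a : ℕ → K} {v : V} (hv : Eigen C π S a v) {cs : List ℕ}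
    (h : clsList cs = true) (hS : ∀ r ∈ cs, r ∈ S) {w : List (ℕ × K)}
    (hw : ∀ p ∈ w, p.1 ∈ cs.flatMap orb) {g : ↥(twistedE6 K q)}
    (hg : (g : GL chevE6.Idx K) = wU chevE6 w) : π g v = Psi K (lam a w) • v := by
  obtain ⟨f, hf, rfl, hlam⟩ := fixed_word C h hw hg
  simp only [clsList, Bool.and_eq_true, List.all_eq_true] at h
  rw [hlam]
  clear hg hlam hw
  obtain ⟨hval, -⟩ := h
  induction cs with
  | nil => simp [clsEl, AddChar.map_zero_eq_one]
  | cons r cs ih =>
    have ih' := ih (fun x hx => hS x (List.mem_cons_of_mem _ hx))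
      (fun x hx => hf x (List.mem_cons_of_mem _ hx)) (fun x hx => hval x (List.mem_cons_of_mem _ hx))
    rw [clsEl] at ih' ⊢
    rw [List.map_cons, List.prod_cons, map_mul, Module.End.mul_apply, ih', map_smul,
      hv r (hS r List.mem_cons_self) (hval r List.mem_cons_self) _ (inv_par C (hf r List.mem_cons_self)),
      smul_smul, List.map_cons, List.sum_cons, AddChar.map_add_eq_mul]
    congr 1
    ring

/-- Transport by an element moving the classes into commuting classes. -/
theorem Eigen.moveW {S S' : List ℕ} {a a' : ℕ → K} {v : V} (hv : Eigen C π S a v)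
    (h : ↥(twistedE6 K q))
    (hm : ∀ r ∈ S', validB r = true → ∀ t ∈ par C r, ∃ (cs : List ℕ) (w : List (ℕ × K)),
      clsList cs = true ∧ (∀ c ∈ cs, c ∈ S) ∧ (∀ p ∈ w, p.1 ∈ cs.flatMap orb) ∧
      (h : GL chevE6.Idx K) * elt C r t * (h : GL chevE6.Idx K)⁻¹ = wU chevE6 w ∧
      lam a w = lam a' (orbW C r t)) : Eigen C π S' a' (π h⁻¹ v) := by
  intro r hr hval t ht
  obtain ⟨cs, w, h1, h2, h3, h4, h5⟩ := hm r hr hval t ht
  have e := regroup C π hv h1 h2 h3 (g := h * eltG C r t * h⁻¹) (by
    rw [Subgroup.coe_mul, Subgroup.coe_mul, Subgroup.coe_inv, eltG_val C hval ht, h4])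
  rw [h5] at e
  rw [← map_smul, ← e, ← Module.End.mul_apply, ← Module.End.mul_apply, ← map_mul, ← map_mul]
  congr 2
  group

/-- The word of a conjugated class element. -/
theorem conj_word {S : List ℕ} {δ r : ℕ} (hδ : validB δ = true) (hok : convOK S δ r = true) (t u : K) :
    clsList (reachCls δ r) = true ∧ (∀ c ∈ reachCls δ r, c ∈ S) ∧
      (∀ p ∈ convL (orbW C δ t) (orbW C r u), p.1 ∈ (reachCls δ r).flatMap orb) ∧
      elt C δ t * elt C r u * (elt C δ t)⁻¹ = wU chevE6 (convL (orbW C δ t) (orbW C r u)) := by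
  simp only [convOK, Bool.and_eq_true, List.all_eq_true, List.contains_iff_mem] at hok
  obtain ⟨⟨⟨hc, hcS⟩, hsub⟩, hlt⟩ := hok
  refine ⟨hc, hcS, ?_, ?_⟩
  · intro p hp
    refine hsub _ ?_
    have hl : (orbW C δ t).map Prod.fst = orb δ := by
      rw [orbW, orb]; unfold rho; split <;> rfl
    rw [reach, ← hl]
    clear hc hcS hsub hlt hl
    generalize orbW C δ t = ds at hp ⊢
    induction ds generalizing p with
    | nil => exact orbW_mem C r u p hp
    | cons d ds ih =>
      rw [List.map_cons, List.foldr_cons]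
      exact conv_roots (fun x hx => ih x hx) p hp
  · rw [orbW_val, orbW_val]
    have hl : (orbW C δ t).map Prod.fst = orb δ := by
      rw [orbW, orb]; unfold rho; split <;> rfl
    have hδlt : ∀ d ∈ orb δ, d < 72 := by
      obtain ⟨h1, h2, -⟩ := valid C hδ
      rw [orb]; split <;> simp [h1, h2]
    rw [← hl] at hlt hδlt
    clear hc hcS hsub hl
    suffices key : ∀ ds : List (ℕ × K), (∀ d ∈ ds.map Prod.fst, d < 72) →
        ((ds.map Prod.fst).foldr (fun d acc =>
          (imgs d acc.1, acc.2 && acc.1.all fun k => Nat.blt k 72 && !(k == tb.neg d)))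
          (orb r, true)).2 = true →
        wU chevE6 ds * wU chevE6 (orbW C r u) * (wU chevE6 ds)⁻¹ =
          wU chevE6 (convL ds (orbW C r u)) ∧
        ∀ p ∈ convL ds (orbW C r u), p.1 ∈ ((ds.map Prod.fst).foldr (fun d acc =>
          (imgs d acc.1, acc.2 && acc.1.all fun k => Nat.blt k 72 && !(k == tb.neg d)))
          (orb r, true)).1 from (key _ hδlt hlt).1
    intro ds
    induction ds with
    | nil => exact fun _ _ => ⟨by simp [convL, wU], orbW_mem C r u⟩
    | cons d ds ih =>
      intro hd hok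
      simp only [List.map_cons, List.foldr_cons, Bool.and_eq_true, List.all_eq_true, blt_iff,
        Bool.not_eq_true', beq_eq_false_iff_ne] at hok
      obtain ⟨e, hroots⟩ := ih (fun x hx => hd x (List.mem_cons_of_mem _ hx)) hok.1
      refine ⟨?_, conv_roots hroots⟩
      show _ = wU chevE6 (conv d.1 d.2 (convL ds _))
      rw [← xU_conv (hd d.1 List.mem_cons_self) d.2 (fun p hp => hok.2 p.1 (hroots p hp)), ← e,
        wU_cons']
      group

/-- The action of a conjugated class element on an eigenvector. -/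
theorem Eigen.conj {S : List ℕ} {a : ℕ → K} {v : V} (hv : Eigen C π S a v) {δ r : ℕ}
    (hδ : validB δ = true) (hr : validB r = true) (hok : convOK S δ r = true) {t u : K}
    (ht : t ∈ par C δ) (hu : u ∈ par C r) :
    π (eltG C δ t * eltG C r u * (eltG C δ t)⁻¹) v =
      Psi K (lam (shL (orbW C δ t) a) (orbW C r u)) • v := by
  obtain ⟨h1, h2, h3, h4⟩ := conj_word C hδ hok t u
  rw [regroup C π hv h1 h2 h3 (by
    rw [Subgroup.coe_mul, Subgroup.coe_mul, Subgroup.coe_inv, eltG_val C hδ ht, eltG_val C hr hu, h4]),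
    lam_convL]

/-- Transport by an element from the action of its conjugates. -/
theorem Eigen.moveP {S' : List ℕ} {a' : ℕ → K} {v : V} (h : ↥(twistedE6 K q))
    (hm : ∀ r ∈ S', validB r = true → ∀ t ∈ par C r,
      π (h * eltG C r t * h⁻¹) v = Psi K (lam a' (orbW C r t)) • v) :
    Eigen C π S' a' (π h⁻¹ v) := by
  intro r hr hval t ht
  rw [← map_smul, ← hm r hr hval t ht, ← Module.End.mul_apply, ← Module.End.mul_apply, ← map_mul,
    ← map_mul]
  congr 2
  group

/-- Conjugation by a class element. -/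
theorem Eigen.step {S : List ℕ} {a : ℕ → K} {v : V} (hv : Eigen C π S a v) {δ : ℕ}
    (h : stepB S δ = true) {t : K} (ht : t ∈ par C δ) :
    Eigen C π S (shL (orbW C δ t) a) (π (eltG C δ t)⁻¹ v) := by
  simp only [stepB, Bool.and_eq_true, List.all_eq_true] at h
  exact Eigen.moveP C π _ fun r hr hval u hu => hv.conj C π h.1 hval (h.2 r hr).2 ht hu

/-- A map permuting the classes of `S` into those of `S'`. -/
def monoB (S S' : List ℕ) (f : ℕ → ℕ) : Bool :=
  S.all fun r => validB r && S'.contains (clsRep (f r)) && clsList [clsRep (f r)] &&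
    (orb r).all fun k => (orb (clsRep (f r))).contains (f k)

/-- Transport by an element permuting the root elements. -/
theorem Eigen.mono {S S' : List ℕ} {a : ℕ → K} {v : V} (hv : Eigen C π S' a v)
    (n : ↥(twistedE6 K q)) (f : ℕ → ℕ) (e : ℕ → K) (h : monoB S S' f = true)
    (hn : ∀ r < 72, ∀ c : K, (n : GL chevE6.Idx K) * xU chevE6 r c * (n : GL chevE6.Idx K)⁻¹ =
      xU chevE6 (f r) (e r * c)) :
    Eigen C π S (fun r => a (f r) * e r) (π n⁻¹ v) := by
  simp only [monoB, List.all_eq_true, Bool.and_eq_true, List.contains_iff_mem] at h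
  refine Eigen.moveW C π hv n fun r hr hval t ht => ?_
  obtain ⟨⟨⟨-, h1⟩, h2⟩, h3⟩ := h r hr
  refine ⟨[clsRep (f r)], (orbW C r t).map fun p => (f p.1, e p.1 * p.2), h2, by simpa using h1, ?_, ?_, ?_⟩
  · intro p hp
    obtain ⟨x, hx, rfl⟩ := List.mem_map.1 hp
    simpa using h3 x.1 (orbW_mem C r t x hx)
  · rw [orbW_val]
    obtain ⟨h1, h2, -⟩ := valid C hval
    have hlt : ∀ p ∈ orbW C r t, p.1 < 72 := fun p hp => by
      have := orbW_mem C r t p hp
      rw [orb] at this
      split at this <;> simp at this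
      · omega
      · rcases this with e | e <;> omega
    generalize orbW C r t = w at hlt ⊢
    induction w with
    | nil => simp [wU]
    | cons p w ih =>
      rw [List.map_cons, wU_cons', wU_cons', ← hn p.1 (hlt p List.mem_cons_self) p.2,
        ← ih fun x hx => hlt x (List.mem_cons_of_mem _ hx)]
      group
  · simp [lam, List.map_map, Function.comp_def, mul_assoc]

/-- The root permutation of a word of orbit reflections. -/
def oImg (ws : List (Fin TwE6.spec.length)) (r : ℕ) : ℕ :=
  LieDegree.reflW tb (ws.flatMap fun o => ((TwE6.O o).word.map Fin.val)) r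

theorem exists_word (ws : List (Fin TwE6.spec.length)) : ∃ (n : ↥(twistedE6 K q)) (e : ℕ → K),
    ∀ r < 72, oImg ws r < 72 ∧ e r ≠ 0 ∧ ∀ c : K,
      (n : GL chevE6.Idx K) * xU chevE6 r c * (n : GL chevE6.Idx K)⁻¹ =
        xU chevE6 (oImg ws r) (e r * c) := by
  induction ws with
  | nil => exact ⟨1, fun _ => 1, fun r hr => ⟨hr, one_ne_zero, fun c => by simp [oImg, LieDegree.reflW]⟩⟩
  | cons o ws ih =>
    obtain ⟨n, e, hn⟩ := ih
    have hperm := C.sys.nO_perm o
    classical
    let c0 : ℕ → K := fun s => if h : s < chevE6.nroots then (hperm ⟨s, h⟩).choose else 1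
    have hw : ∀ (l : List (Fin chevE6.rank)) (s : Fin chevE6.nroots),
        (sW chevE6 l s).val = LieDegree.reflW tb (l.map Fin.val) s.val := by
      intro l
      induction l with
      | nil => intro s; rw [sW_nil]; rfl
      | cons i l ih =>
        intro s
        rw [sW_cons, Equiv.Perm.mul_apply, DataE6.facts.sP_val, ih, List.map_cons,
          reflect_eq DataE6.chk_arrays DataE6.chk_chain i.isLt (by rw [← ih]; exact (sW chevE6 l s).isLt)]
        rfl
    refine ⟨⟨_, C.sys.nO_mem o⟩ * n, fun r => c0 (oImg ws r) * e r, fun r hr => ?_⟩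
    obtain ⟨h1, h2, h3⟩ := hn r hr
    have h1' : oImg ws r < chevE6.nroots := nroots72.1.symm ▸ h1
    obtain ⟨g1, g2, -⟩ := (hperm ⟨_, h1'⟩).choose_spec
    have hc0 : c0 (oImg ws r) = (hperm ⟨_, h1'⟩).choose := by simp only [c0, dif_pos h1']
    have himg : oImg (o :: ws) r = ((TwE6.O o).wO ⟨_, h1'⟩).val := by
      rw [Orb.wO, hw, oImg, List.flatMap_cons, LieDegree.reflW, List.foldr_append]
      rfl
    refine ⟨himg ▸ nroots72.1 ▸ ((TwE6.O o).wO ⟨_, h1'⟩).isLt, mul_ne_zero (hc0 ▸ g1) h2, fun c => ?_⟩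
    dsimp only
    rw [himg, Subgroup.coe_mul, hc0, mul_assoc (hperm ⟨_, h1'⟩).choose, ← g2, ← h3]
    group

end CfsgLib.Known.TwLieDegree
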