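/-
The abelian subgroup in the radical of the long root parabolic of ²E₆ and the multiplicities of its characters.
-/
import Mathlib
import Cfsg.Agent.Lib.Known.TwLieDegree.Eig
import Cfsg.Agent.Lib.Known.D4Degree.AbelChar

set_option autoImplicit false
set_option maxRecDepth 20000
set_option maxHeartbeats 1000000
set_option linter.unusedSectionVars false

namespace CfsgLib.Known.TwLieDegree

open Cfsg.Lie CfsgLib.Chev CfsgLib.Chev.Table CfsgLib.Known.RootLift.E6 CfsgLib.Known.D4Degree

universe v

/-- The data of the abelian subgroup. -/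
structure HData where
  /-- The highest root. -/
  z : ℕ
  /-- The simple root outside its centraliser. -/
  a : ℕ
  /-- The classes of the other roots, `a` among them. -/
  half : List ℕ
  /-- Each class with its partner. -/
  other : List (ℕ × ℕ)
  /-- Orbit reflections sending the highest root to `a`. -/
  word : List (Fin TwE6.spec.length)

/-- The classes of the abelian subgroup. -/
def HData.cls (H : HData) : List ℕ := H.z :: H.half

/-- The roots of the abelian subgroup. -/
def HData.ab (H : HData) : List ℕ := H.cls.flatMap orb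

/-- Conjugation by the roots of a class keeps the list. -/
def normB (L : List ℕ) (δ : ℕ) : Bool :=
  validB δ && (orb δ).all fun d => L.all fun r =>
    !(r == tb.neg d) && match tb.tg d r with
      | none => true
      | some k => L.contains k

/-- The checks. -/
def HData.checkB (H : HData) : Bool :=
  clsList H.cls && (rho H.z == H.z) && (parE6.eps H.z == 1) &&
  (rho H.a == H.a) && (parE6.eps H.a == 1) && H.half.contains H.a && Nat.blt H.z 72 && Nat.blt H.a 72 &&
  (pairing 0 H.z == 1 || pairing 0 H.z == -1) &&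
  H.half.all (fun i => H.other.any fun p => (p.2 == i) && normB H.ab p.1 &&
    (tb.tg p.1 i == some H.z) && (rho i == i) == (rho p.1 == p.1) &&
    (rho i == i || tb.tg (rho p.1) (rho i) == some H.z) &&
    (tb.nn (rho p.1) (rho i) * parE6.eps p.1 == parE6.eps i * tb.nn p.1 i) &&
    H.ab.all fun k => (orb p.1).all fun d =>
      (tb.tg d k).isNone || (d == p.1 && k == i) || (d == rho p.1 && k == rho i)) &&
  H.ab.all (fun r => H.ab.contains (oImg H.word r) &&
    (oImg H.word.reverse (oImg H.word r) == r)) &&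
  (oImg H.word H.z == H.a)

/-- What the checks give. -/
structure HFacts (H : HData) : Prop where
  cls : clsList H.cls = true
  z_fix : rho H.z = H.z
  z_eps : parE6.eps H.z = 1
  a_fix : rho H.a = H.a
  a_eps : parE6.eps H.a = 1
  a_mem : H.a ∈ H.half
  z_lt : H.z < 72
  a_lt : H.a < 72
  pair_z : pairing 0 H.z = 1 ∨ pairing 0 H.z = -1
  partner : ∀ i ∈ H.half, ∃ c, normB H.ab c = true ∧ tb.tg c i = some H.z ∧
    (rho i = i ↔ rho c = c) ∧ (rho i = i ∨ tb.tg (rho c) (rho i) = some H.z) ∧
    tb.nn (rho c) (rho i) * parE6.eps c = parE6.eps i * tb.nn c i ∧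
    ∀ k ∈ H.ab, ∀ d ∈ orb c, tb.tg d k = none ∨ (d = c ∧ k = i) ∨ (d = rho c ∧ k = rho i)
  word_ab : ∀ r ∈ H.ab, oImg H.word r ∈ H.ab ∧ oImg H.word.reverse (oImg H.word r) = r
  word_z : oImg H.word H.z = H.a

theorem hfacts_of_check {H : HData} (h : H.checkB = true) : HFacts H := by
  simp only [HData.checkB, Bool.and_eq_true, List.all_eq_true, List.contains_iff_mem,
    blt_iff, beq_iff_eq, Bool.or_eq_true, List.any_eq_true, Option.isNone_iff_eq_none] at h
  obtain ⟨⟨⟨⟨⟨⟨⟨⟨⟨⟨⟨h1, h2⟩, h3⟩, h4⟩, h5⟩, h6⟩, h7⟩, h8⟩, h9⟩, h10⟩, h11⟩, h12⟩ := h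
  refine ⟨h1, h2, h3, h4, h5, h6, h7, h8, h9, fun i hi => ?_, h11, h12⟩
  obtain ⟨p, -, hp⟩ := h10 i hi
  obtain ⟨⟨⟨⟨⟨⟨rfl, p2⟩, p3⟩, p4⟩, p5⟩, p6⟩, p7⟩ := hp
  refine ⟨p.1, p2, p3, ?_, p5, p6, fun k hk d hd => or_assoc.1 (p7 k hk d hd)⟩
  rw [← beq_iff_eq (a := rho p.2), ← beq_iff_eq (a := rho p.1), p4]

/-- The index type. -/
abbrev AIdx (H : HData) : Type := {k : ℕ // k ∈ H.ab}

variable {K : Type v} [Field K] [Fintype K]

/-- A family on the indices as a family on all roots. -/
def ext {H : HData} (f : AIdx H → K) (k : ℕ) : K := if h : k ∈ H.ab then f ⟨k, h⟩ else 0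

theorem ext_add {H : HData} (f g : AIdx H → K) : ext (f + g) = fun k => ext f k + ext g k := by
  funext k; unfold ext; split <;> simp

theorem ext_val {H : HData} (f : AIdx H → K) (k : AIdx H) : ext f k.1 = f k := by
  rw [ext, dif_pos k.2]

theorem cls_val {H : HData} (hH : HFacts H) : ∀ r ∈ H.cls, validB r = true := by
  have := hH.cls
  simp only [clsList, Bool.and_eq_true, List.all_eq_true] at this
  exact this.1

theorem ab_comm {H : HData} (hH : HFacts H) : commList H.ab = true := by
  have := hH.cls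
  simp only [clsList, Bool.and_eq_true] at this
  exact this.2

theorem mem_orb_self (r : ℕ) : r ∈ orb r ∧ rho r ∈ orb r := by
  unfold rho
  rw [orb]
  split <;> rename_i e <;> simp [e]

theorem mem_ab {H : HData} {r : ℕ} (hr : r ∈ H.cls) : r ∈ H.ab ∧ rho r ∈ H.ab :=
  ⟨List.mem_flatMap.2 ⟨r, hr, (mem_orb_self r).1⟩, List.mem_flatMap.2 ⟨r, hr, (mem_orb_self r).2⟩⟩

variable {q : ℕ} (C : TwE6.Ctx K q) (H : HData)
include C

theorem inv_rho {a : ℕ → K} {r : ℕ} (hr : validB r = true) (h : Inv C a r) : Inv C a (rho r) := by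
  obtain ⟨h1, h2, h3, h4, -⟩ := valid C hr
  rw [Inv, show rho (rho r) = r from h3, show a (rho r) = _ from h, map_mul, map_intCast, C.pow_two,
    ← mul_assoc, ← Int.cast_mul, mul_comm, show parE6.eps (rho r) * parE6.eps r = 1 by
      rw [mul_comm]; exact h4, Int.cast_one, mul_one]

/-- The compatible families: they are both the elements and the characters of the subgroup. -/
def FA : AddSubgroup (AIdx H → K) where
  carrier := {f | ∀ r ∈ H.cls, Inv C (ext f) r}
  zero_mem' := fun r _ => by
    show ext (0 : AIdx H → K) (rho r) = _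
    simp [ext]
  add_mem' := fun {f g} hf hg r hr => by
    show ext (f + g) (rho r) = _
    rw [ext_add]
    show ext f (rho r) + ext g (rho r) = _
    rw [show ext f (rho r) = _ from hf r hr, show ext g (rho r) = _ from hg r hr]
    rw [map_add, mul_add]
  neg_mem' := fun {f} hf r hr => by
    have e : ∀ k, ext (-f) k = -ext f k := fun k => by unfold ext; split <;> simp
    show ext (-f) (rho r) = _
    rw [e, e, map_neg, mul_neg, show ext f (rho r) = _ from hf r hr]

noncomputable instance : Fintype (FA C H) := Fintype.ofFinite _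

/-- The element of the subgroup. -/
noncomputable def el (f : FA C H) : ↥(twistedE6 K q) := clsEl C H.cls (ext f.1)

variable {H} (hH : HFacts H)
include hH

theorem el_val (f : FA C H) :
    (el C H f : GL chevE6.Idx K) = wU chevE6 (wordL H.ab (ext f.1)) :=
  clsEl_val C (cls_val hH) f.2

theorem el_add (f g : FA C H) : el C H (f + g) = el C H f * el C H g := by
  refine Subtype.ext ?_
  obtain ⟨h1, -, h3⟩ := commList_spec (ab_comm hH)
  rw [Subgroup.coe_mul, el_val C hH, el_val C hH, el_val C hH, ← wU_wordL_add (fun r hr => (h1 r hr).2) h3,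
    AddSubgroup.coe_add, ext_add]

theorem el_zero : el C H (0 : FA C H) = 1 := by
  have := el_add C hH (0 : FA C H) 0
  rwa [add_zero, left_eq_mul] at this

theorem el_injective {f g : FA C H} (h : el C H f = el C H g) : f = g := by
  have h' := congrArg Subtype.val h
  simp only [el_val C hH] at h'
  have hz : ∀ (L : List ℕ) (g : ℕ → K), wordL L g = L.zip (L.map g) := fun L g => by
    induction L with
    | nil => rfl
    | cons i L ih => simp only [wordL, List.map_cons, List.zip_cons_cons] at ih ⊢; rw [ih]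
  rw [hz, hz] at h'
  have e := DataE6.facts.coords_unique C.sig.hC (commList_coord (ab_comm hH)) (List.length_map _)
    (List.length_map _) h'
  refine Subtype.ext (funext fun k => ?_)
  have := List.map_inj_left.1 e k.1 k.2
  rwa [ext_val, ext_val] at this

/-- A fixed word over the roots of the subgroup is an element of the subgroup. -/
theorem exists_el {w : List (ℕ × K)} (hw : ∀ p ∈ w, p.1 ∈ H.ab) {g : ↥(twistedE6 K q)}
    (hg : (g : GL chevE6.Idx K) = wU chevE6 w) :
    ∃ f : FA C H, g = el C H f ∧ ∀ a : ℕ → K, lam a w = lam a (wordL H.ab (ext f.1)) := by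
  obtain ⟨e1, e2⟩ := wU_eq_coords (ab_comm hH) hw
  have hf := fixed_coords C hH.cls (show wU chevE6 (wordL (H.cls.flatMap orb) (csum w)) ∈ _ by
    rw [← HData.ab, ← e1, ← hg]; exact g.2)
  have hext : ∀ k ∈ H.ab, ext (fun k : AIdx H => csum w k.1) k = csum w k := fun k hk => by
    rw [ext, dif_pos hk]
  have hL : wordL H.ab (ext (fun k : AIdx H => csum w k.1)) = wordL H.ab (csum w) :=
    List.map_congr_left fun k hk => by rw [hext k hk]
  refine ⟨⟨fun k => csum w k.1, fun r hr => ?_⟩, Subtype.ext ?_, fun a => by rw [hL]; exact e2 a⟩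
  · show ext _ (rho r) = _
    rw [hext _ (mem_ab hr).2, hext _ (mem_ab hr).1]
    exact hf r hr
  · rw [el_val C hH, hL, ← e1, hg]

omit hH in
theorem lam_smul (c : ℕ → K) (L : List ℕ) (f : ℕ → K) :
    lam c (wordL L f) = (L.map fun k => c k * f k).sum := by
  simp [lam, wordL, List.map_map, Function.comp_def]

/-- The character of a family. -/
noncomputable def chr (θ : FA C H) : AddChar (FA C H) ℂ where
  toFun f := Psi K (lam (ext θ.1) (wordL H.ab (ext f.1)))
  map_zero_eq_one' := by
    rw [show lam (ext θ.1) (wordL H.ab (ext (0 : FA C H).1)) = 0 by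
      rw [lam_smul C]; simp [ext]]
    exact AddChar.map_zero_eq_one _
  map_add_eq_mul' f g := by
    rw [AddSubgroup.coe_add, ext_add, lam_wordL_add, AddChar.map_add_eq_mul]

/-- A family concentrated on one class. -/
theorem exists_single {r : ℕ} (hr : r ∈ H.cls) {t : K} (ht : t ∈ par C r) :
    ∃ f : FA C H, el C H f = eltG C r t ∧
      ∀ a : ℕ → K, lam a (wordL H.ab (ext f.1)) = lam a (orbW C r t) := by
  obtain ⟨f, e, hl⟩ := exists_el C hH (w := orbW C r t) (fun p hp =>
    List.mem_flatMap.2 ⟨r, hr, orbW_mem C r t p hp⟩) (g := eltG C r t)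
    (by rw [eltG_val C (cls_val hH r hr) ht, orbW_val])
  exact ⟨f, e.symm, fun a => (hl a).symm⟩

theorem chr_bijective : Function.Bijective (chr C (H := H)) := by
  classical
  rw [Fintype.bijective_iff_injective_and_card]
  refine ⟨fun θ θ' h => ?_, (AddChar.card_eq).symm⟩
  refine Subtype.ext (funext fun k => ?_)
  obtain ⟨r, hr, hk⟩ := List.mem_flatMap.1 k.2
  have hv := cls_val hH r hr
  have e : ext θ.1 r = ext θ'.1 r := eq_of_psi C hv (θ.2 r hr) (θ'.2 r hr) fun t ht => by
    obtain ⟨f, -, hl⟩ := exists_single C hH hr ht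
    rw [← hl, ← hl]
    exact DFunLike.congr_fun h f
  rw [← ext_val θ.1, ← ext_val θ'.1]
  rw [orb] at hk
  split at hk <;> simp at hk
  · rw [hk]; exact e
  · rcases hk with hk | hk <;> rw [hk]
    · exact e
    · rw [show ext θ.1 (parE6.rho r) = _ from θ.2 r hr, show ext θ'.1 (parE6.rho r) = _ from θ'.2 r hr, e]

variable {V : Type*} [AddCommGroup V] [Module ℂ V] (π : Representation ℂ ↥(twistedE6 K q) V)

/-- The operators of the subgroup. -/
noncomputable def opA (f : FA C H) : Module.End ℂ V := π (el C H f)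

theorem opA_add (f g : FA C H) :
    opA C π (H := H) f * opA C π g = opA C π (f + g) := by
  rw [opA, opA, opA, ← map_mul, el_add C hH]

theorem opA_zero : opA C π (0 : FA C H) = 1 := by
  rw [opA, el_zero C hH, map_one]

variable [FiniteDimensional ℂ V]

/-- The multiplicity of a family. -/
noncomputable def mA (θ : FA C H) : ℕ := mult (opA C π) (chr C θ)

/-- An element normalising the subgroup preserves multiplicities. -/
theorem mA_move (g : ↥(twistedE6 K q)) (θ θ' : FA C H)
    (hg : ∀ f : FA C H, ∃ f' : FA C H, g * el C H f * g⁻¹ = el C H f' ∧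
      chr C θ f = chr C θ' f') :
    mA C π θ = mA C π θ' := by
  choose e he hl using hg
  have hb : Function.Bijective e := Finite.injective_iff_bijective.1 fun f f' h => el_injective C hH (by
    refine mul_left_cancel (a := g) (mul_right_cancel (b := g⁻¹) ?_)
    rw [he, he, h])
  have hadd : ∀ f f', e (f + f') = e f + e f' := fun f f' => el_injective C hH (by
    rw [el_add C hH, ← he, el_add C hH, ← he, ← he]; group)
  have hneg : ∀ f, e (-f) = -e f := (AddMonoidHom.mk' e hadd).map_neg
  refine mult_congr (opA_add C hH π) (S := π g) (T := π g⁻¹)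
    (by rw [← map_mul, mul_inv_cancel, map_one]) (by rw [← map_mul, inv_mul_cancel, map_one])
    (conj_proj (by rw [← map_mul, inv_mul_cancel, map_one]) hb (fun f => ?_) _ _ fun f => ?_)
  · rw [opA, opA, ← map_mul, ← map_mul, he]
  · rw [← hneg]
    exact hl (-f)

/-- An element mapping the roots of the subgroup to themselves. -/
theorem mA_monomial (n : ↥(twistedE6 K q)) (f : ℕ → ℕ) (e : ℕ → K)
    (hf : ∀ r ∈ H.ab, f r ∈ H.ab)
    (hn : ∀ r ∈ H.ab, ∀ c : K, (n : GL chevE6.Idx K) * xU chevE6 r c * (n : GL chevE6.Idx K)⁻¹ =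
      xU chevE6 (f r) (e r * c)) (θ θ' : FA C H)
    (hθ : ∀ r ∈ H.ab, ext θ.1 r = ext θ'.1 (f r) * e r) : mA C π θ = mA C π θ' := by
  refine mA_move C hH π n θ θ' fun φ => ?_
  set L := H.ab with hL
  obtain ⟨φ', h1, h2⟩ := exists_el C hH (w := (wordL L (ext φ.1)).map fun p => (f p.1, e p.1 * p.2))
    (fun p hp => by
      simp only [wordL, List.map_map, List.mem_map, Function.comp_apply] at hp
      obtain ⟨k, hk, rfl⟩ := hp
      exact hf k hk) (g := n * el C H φ * n⁻¹) (by
      rw [Subgroup.coe_mul, Subgroup.coe_mul, Subgroup.coe_inv, el_val C hH, ← hL]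
      have key : ∀ L' : List ℕ, (∀ r ∈ L', r ∈ L) →
          (n : GL chevE6.Idx K) * wU chevE6 (wordL L' (ext φ.1)) * (n : GL chevE6.Idx K)⁻¹ =
            wU chevE6 ((wordL L' (ext φ.1)).map fun p => (f p.1, e p.1 * p.2)) := by
        intro L'
        induction L' with
        | nil => intro _; simp [wordL, wU]
        | cons k L' ih =>
          intro hs
          have := ih fun r hr => hs r (List.mem_cons_of_mem _ hr)
          simp only [wordL, List.map_cons, wU_cons'] at this ⊢
          rw [← this, ← hn k (hs k List.mem_cons_self)]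
          group
      exact key L fun _ h => h)
  refine ⟨φ', h1, congrArg (Psi K) ?_⟩
  rw [← h2]
  simp only [lam, wordL, List.map_map]
  refine congrArg List.sum (List.map_congr_left fun k hk => ?_)
  simp only [Function.comp_apply]
  rw [hθ k hk]
  ring

/-- An element of a partner class. -/
theorem mA_class {c : ℕ} (hc : normB H.ab c = true) {u : K} (hu : u ∈ par C c) (θ θ' : FA C H)
    (hθ : ∀ r ∈ H.ab, ext θ.1 r = shL (orbW C c u) (ext θ'.1) r) : mA C π θ = mA C π θ' := by
  simp only [normB, Bool.and_eq_true, List.all_eq_true, Bool.not_eq_true', beq_eq_false_iff_ne] at hc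
  obtain ⟨hv, hclo⟩ := hc
  refine mA_move C hH π (eltG C c u) θ θ' fun φ => ?_
  have hlt : ∀ d ∈ orb c, d < 72 := by
    obtain ⟨h1, h2, -⟩ := valid C hv
    rw [orb]; split <;> simp [h1, h2]
  obtain ⟨h1', -, -⟩ := commList_spec (ab_comm hH)
  have key : ∀ ds : List (ℕ × K), (∀ p ∈ ds, p.1 ∈ orb c) →
      wU chevE6 ds * wU chevE6 (wordL H.ab (ext φ.1)) * (wU chevE6 ds)⁻¹ =
        wU chevE6 (convL ds (wordL H.ab (ext φ.1))) ∧
      ∀ p ∈ convL ds (wordL H.ab (ext φ.1)), p.1 ∈ H.ab := by
    intro ds
    induction ds with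
    | nil =>
      exact fun _ => ⟨by simp [convL, wU], fun p hp => by
        obtain ⟨k, hk, rfl⟩ := List.mem_map.1 hp
        exact hk⟩
    | cons d ds ih =>
      intro hd
      obtain ⟨e, hr⟩ := ih fun p hp => hd p (List.mem_cons_of_mem _ hp)
      have hd1 := hd d List.mem_cons_self
      refine ⟨?_, fun p hp => ?_⟩
      · show _ = wU chevE6 (conv d.1 d.2 (convL ds _))
        rw [← xU_conv (hlt _ hd1) d.2 (fun p hp => ⟨(h1' _ (hr p hp)).2, (hclo _ hd1 _ (hr p hp)).1⟩),
          ← e, wU_cons']
        group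
      · obtain ⟨k, hk, hk'⟩ := List.mem_flatMap.1 (conv_roots hr p hp)
        have := (hclo _ hd1 k hk).2
        rcases hT : tb.tg d.1 k with _ | j <;> rw [hT] at hk' this
        · simp at hk'; exact hk' ▸ hk
        · simp at hk'
          rcases hk' with e | e
          · exact e ▸ hk
          · exact e ▸ (by simpa using this)
  obtain ⟨e1, e2⟩ := key (orbW C c u) (orbW_mem C c u)
  obtain ⟨φ', g1, g2⟩ := exists_el C hH e2 (g := eltG C c u * el C H φ * (eltG C c u)⁻¹) (by
    rw [Subgroup.coe_mul, Subgroup.coe_mul, Subgroup.coe_inv, el_val C hH, eltG_val C hv hu, orbW_val,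
      e1])
  refine ⟨φ', g1, congrArg (Psi K) ?_⟩
  rw [← g2, lam_convL]
  simp only [lam, wordL, List.map_map]
  exact congrArg List.sum (List.map_congr_left fun k hk => by
    simp only [Function.comp_apply]; rw [hθ k hk])

end CfsgLib.Known.TwLieDegree
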