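/-
The common multiplicity of the characters of the abelian subgroup and the dimension of the fixed space of the
highest root group of ²E₆.
-/
import Mathlib
import Cfsg.Agent.Lib.Known.TwLieDegree.Heis

set_option autoImplicit false
set_option maxRecDepth 20000
set_option maxHeartbeats 1000000
set_option linter.unusedSectionVars false

namespace CfsgLib.Known.TwLieDegree

open Cfsg.Lie CfsgLib.Chev CfsgLib.Chev.Table CfsgLib.Known.RootLift.E6 CfsgLib.Known.D4Degree

universe v

variable {K : Type v} [Field K] [Fintype K] {q : ℕ} (C : TwE6.Ctx K q) {H : HData}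
include C

theorem exists_moved : ∃ μ : K, C.f μ ≠ μ := by
  by_contra! hid
  have hq := C.q_gt
  have hc := card_field_fix hq C.card
  have : Nat.card {t : K // t ^ q = t} = Nat.card K :=
    Nat.card_congr (Equiv.subtypeUnivEquiv fun t => (C.hf t).symm.trans (hid t))
  rw [hc, Nat.card_eq_fintype_card, C.card] at this
  nlinarith

theorem orb_mem_ab {r k : ℕ} (hr : r ∈ H.cls) (hk : k ∈ orb r) : k ∈ H.ab :=
  List.mem_flatMap.2 ⟨r, hr, hk⟩

variable (hH : HFacts H)
include hH

/-- Compatibility at every root of the subgroup. -/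
theorem ext_inv (θ : FA C H) : ∀ k ∈ H.ab, Inv C (ext θ.1) k := by
  intro k hk
  obtain ⟨r, hr, hk⟩ := List.mem_flatMap.1 hk
  rw [orb] at hk
  split at hk <;> simp at hk
  · exact hk ▸ θ.2 r hr
  · rcases hk with rfl | rfl
    · exact θ.2 k hr
    · exact inv_rho C (cls_val hH r hr) (θ.2 r hr)

theorem rho_mem {k : ℕ} (hk : k ∈ H.ab) : rho k ∈ H.ab ∧ rho (rho k) = k ∧
    (parE6.eps k : K) * (parE6.eps (rho k) : K) = 1 := by
  obtain ⟨r, hr, hk⟩ := List.mem_flatMap.1 hk
  obtain ⟨-, -, h3, h4, -⟩ := valid C (cls_val hH r hr)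
  have h4' : (parE6.eps r : K) * (parE6.eps (rho r) : K) = 1 := by
    rw [← Int.cast_mul, show parE6.eps r * parE6.eps (rho r) = 1 from h4, Int.cast_one]
  rw [orb] at hk
  split at hk <;> simp at hk
  · subst hk; exact ⟨(mem_ab hr).2, h3, h4'⟩
  · rcases hk with rfl | rfl
    · exact ⟨(mem_ab hr).2, h3, h4'⟩
    · refine ⟨?_, congrArg rho h3, ?_⟩
      · rw [show rho (parE6.rho r) = r from h3]; exact (mem_ab hr).1
      · rw [show rho (parE6.rho r) = r from h3, mul_comm]; exact h4'

/-- The number of families vanishing on some fixed roots. -/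
theorem card_zero_on (X : List ℕ) (hX : ∀ k ∈ X, k ∈ H.ab) (hnd : X.Nodup)
    (hρ : ∀ k ∈ X, rho k = k) :
    Nat.card {θ : FA C H // ∀ k ∈ X, ext θ.1 k = 0} = q ^ (H.ab.length - X.length) := by
  classical
  obtain ⟨μ, hμ⟩ := exists_moved C
  have hd : μ - C.f μ ≠ 0 := sub_ne_zero.2 (Ne.symm hμ)
  obtain ⟨-, hab, -⟩ := commList_spec (ab_comm hH)
  let S := {θ : FA C H // ∀ k ∈ X, ext θ.1 k = 0}
  let W := {x : AIdx H → K // ∀ k : AIdx H, k.1 ∈ X → x k = 0}
  let τ : (AIdx H → K) → AIdx H → K := fun x k =>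
    (parE6.eps (rho k.1) : K) * C.f (x ⟨rho k.1, (rho_mem C hH k.2).1⟩)
  have hfix : ∀ (θ : FA C H) (k : AIdx H), τ θ.1 k = θ.1 k := fun θ k => by
    obtain ⟨h1, h2, h3⟩ := rho_mem C hH k.2
    have := ext_inv C hH θ (rho k.1) h1
    rw [Inv, h2, ext_val] at this
    rw [this]
    show _ * C.f (θ.1 ⟨rho k.1, h1⟩) = _
    rw [← ext_val θ.1 ⟨rho k.1, h1⟩]
  have hmk : ∀ f : AIdx H → K, (∀ k, τ f k = f k) → f ∈ FA C H := fun f hf r hr => by
    obtain ⟨h1, h2⟩ := mem_ab hr
    show ext f (rho r) = _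
    rw [ext, dif_pos h2, ← hf ⟨rho r, h2⟩, ext, dif_pos h1]
    obtain ⟨-, e, he⟩ := rho_mem C hH h1
    show (parE6.eps (rho (rho r)) : K) * C.f (f ⟨rho (rho r), _⟩) = _
    congr 1
    · rw [e]
    · congr 2; exact Subtype.ext e
  have hττ : ∀ (x : AIdx H → K) k, τ (τ x) k = x k := fun x k => by
    obtain ⟨h1, h2, h3⟩ := rho_mem C hH k.2
    show (parE6.eps (rho k.1) : K) *
      C.f ((parE6.eps (rho (rho k.1)) : K) * C.f (x ⟨rho (rho k.1), _⟩)) = x k
    simp only [map_mul, map_intCast, C.pow_two, h2, Subtype.coe_eta]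
    rw [← mul_assoc, mul_comm (parE6.eps (rho k.1) : K), h3, one_mul]
  have hadd : ∀ x y : AIdx H → K, ∀ k, τ (x + y) k = τ x k + τ y k := fun x y k => by
    show _ * C.f (x _ + y _) = _
    rw [map_add, mul_add]
  have hsc : ∀ (c : K) (x : AIdx H → K), ∀ k, τ (c • x) k = C.f c * τ x k := fun c x k => by
    show _ * C.f (c * x _) = _
    rw [map_mul, mul_left_comm]
  have hX0 : ∀ (x : W) (k : AIdx H), k.1 ∈ X → τ x.1 k = 0 := fun x k hk => by
    show _ * C.f (x.1 ⟨rho k.1, _⟩) = 0
    rw [x.2 ⟨rho k.1, _⟩ (show rho k.1 ∈ X by rw [hρ _ hk]; exact hk), map_zero, mul_zero]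
  let gpart : W → AIdx H → K := fun x k => (x.1 k - τ x.1 k) / (μ - C.f μ)
  have hg : ∀ x k, τ (gpart x) k = gpart x k := fun x k => by
    have : gpart x = (μ - C.f μ)⁻¹ • (x.1 + (-1 : K) • τ x.1) := by
      funext j; simp [gpart, div_eq_inv_mul, sub_eq_add_neg]
    rw [this, hsc, hadd, hsc, hττ, map_inv₀, map_sub, C.pow_two, map_neg, map_one]
    simp only [Pi.smul_apply, Pi.add_apply, smul_eq_mul]
    rw [show (C.f μ - μ)⁻¹ = -(μ - C.f μ)⁻¹ by rw [← inv_neg, neg_sub]]
    ring
  let fpart : W → AIdx H → K := fun x k => x.1 k - μ * gpart x k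
  have hf : ∀ x k, τ (fpart x) k = fpart x k := fun x k => by
    have : fpart x = x.1 + (-μ) • gpart x := by funext j; simp [fpart, sub_eq_add_neg]
    rw [this, hadd, hsc, hg, map_neg]
    show τ x.1 k + -C.f μ * gpart x k = x.1 k + -μ * gpart x k
    have : gpart x k * (μ - C.f μ) = x.1 k - τ x.1 k := div_mul_cancel₀ _ hd
    linear_combination this
  have hg0 : ∀ (x : W), ∀ k ∈ X, ext (gpart x) k = 0 := fun x k hk => by
    rw [ext, dif_pos (hX k hk)]
    show (x.1 _ - τ x.1 _) / _ = 0
    rw [x.2 ⟨k, hX k hk⟩ hk, hX0 x ⟨k, hX k hk⟩ hk, sub_zero, zero_div]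
  have hf0 : ∀ (x : W), ∀ k ∈ X, ext (fpart x) k = 0 := fun x k hk => by
    have h1 := hg0 x k hk
    rw [ext, dif_pos (hX k hk)] at h1 ⊢
    show x.1 _ - μ * _ = 0
    rw [x.2 ⟨k, hX k hk⟩ hk, h1, mul_zero, sub_zero]
  let E : S × S ≃ W :=
    { toFun := fun p => ⟨fun k => p.1.1.1 k + μ * p.2.1.1 k, fun k hk => by
        have h1 := p.1.2 k.1 hk
        have h2 := p.2.2 k.1 hk
        rw [ext_val] at h1 h2
        show p.1.1.1 k + μ * p.2.1.1 k = 0
        rw [h1, h2, mul_zero, add_zero]⟩
      invFun := fun x => (⟨⟨fpart x, hmk _ (hf x)⟩, hf0 x⟩, ⟨⟨gpart x, hmk _ (hg x)⟩, hg0 x⟩)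
      left_inv := fun p => by
        have e : ∀ k, τ (p.1.1.1 + μ • p.2.1.1) k = p.1.1.1 k + C.f μ * p.2.1.1 k := fun k => by
          rw [hadd, hsc, hfix, hfix]
        have h2 : ∀ k, ((p.1.1.1 k + μ * p.2.1.1 k) - τ (p.1.1.1 + μ • p.2.1.1) k) / (μ - C.f μ) =
            p.2.1.1 k := fun k => by
          rw [e]; field_simp; ring
        refine Prod.ext (Subtype.ext (Subtype.ext (funext fun k => ?_)))
          (Subtype.ext (Subtype.ext (funext fun k => h2 k)))
        show (p.1.1.1 k + μ * p.2.1.1 k) - μ * _ = p.1.1.1 k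
        rw [show gpart _ k = p.2.1.1 k from h2 k]
        ring
      right_inv := fun x => Subtype.ext (funext fun k => by
        show (x.1 k - μ * gpart x k) + μ * gpart x k = x.1 k
        ring) }
  have hW : Nat.card W = Fintype.card K ^ (H.ab.length - X.length) := by
    have e : W ≃ ({k : AIdx H // k.1 ∉ X} → K) :=
      { toFun := fun x k => x.1 k.1
        invFun := fun g => ⟨fun k => if h : k.1 ∈ X then 0 else g ⟨k, h⟩, fun k hk => by simp [hk]⟩
        left_inv := fun x => Subtype.ext (funext fun k => by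
          by_cases h : k.1 ∈ X
          · simp [h, x.2 k h]
          · simp [h])
        right_inv := fun g => funext fun k => by simp [k.2] }
    rw [Nat.card_congr e, Nat.card_eq_fintype_card, Fintype.card_fun, Fintype.card_subtype_compl]
    congr 2
    · rw [← List.toFinset_card_of_nodup hab, ← Fintype.card_coe]
      exact Fintype.card_congr (Equiv.subtypeEquivRight fun x => List.mem_toFinset.symm)
    · rw [← List.toFinset_card_of_nodup hnd, ← Fintype.card_coe]
      exact Fintype.card_congr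
        { toFun := fun k => ⟨k.1.1, List.mem_toFinset.2 k.2⟩
          invFun := fun k => ⟨⟨k.1, hX _ (List.mem_toFinset.1 k.2)⟩, List.mem_toFinset.1 k.2⟩
          left_inv := fun _ => rfl
          right_inv := fun _ => rfl }
  have h2 : Nat.card S * Nat.card S = (q ^ (H.ab.length - X.length)) * (q ^ (H.ab.length - X.length)) := by
    rw [← Nat.card_prod, Nat.card_congr E, hW, C.card, ← pow_mul, ← pow_add]
    ring_nf
  exact Nat.mul_self_inj.1 h2

theorem z_mem : H.z ∈ H.ab := (mem_ab (List.mem_cons_self (l := H.half))).1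

theorem a_mem_ab : H.a ∈ H.ab := (mem_ab (List.mem_cons_of_mem _ hH.a_mem)).1

theorem a_ne_z : H.a ≠ H.z := by
  intro h
  obtain ⟨-, hnd, -⟩ := commList_spec (ab_comm hH)
  rw [HData.ab, HData.cls, List.flatMap_cons] at hnd
  exact (List.nodup_append.1 hnd).2.2 H.z (mem_orb_self _).1 H.z
    (h ▸ List.mem_flatMap.2 ⟨H.a, hH.a_mem, (mem_orb_self _).1⟩) rfl

/-- The family of a scalar at the highest root. -/
theorem exists_zfam {t : K} (ht : C.f t = t) :
    ∃ θ : FA C H, ∀ k ∈ H.ab, ext θ.1 k = if k = H.z then t else 0 := by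
  refine ⟨⟨fun k => if k.1 = H.z then t else 0, fun r hr => ?_⟩, fun k hk => by rw [ext, dif_pos hk]⟩
  obtain ⟨h1, h2⟩ := mem_ab hr
  show ext _ (rho r) = _
  rw [ext, dif_pos h2, ext, dif_pos h1]
  dsimp only
  by_cases hz : r = H.z
  · subst hz
    rw [if_pos hH.z_fix, if_pos rfl, hH.z_eps, Int.cast_one, one_mul, ht]
  · rw [if_neg hz, map_zero, mul_zero, if_neg]
    intro h
    obtain ⟨-, -, h3, -⟩ := valid C (cls_val hH r hr)
    rw [show parE6.rho r = rho r from rfl, h] at h3
    exact hz (h3.symm.trans hH.z_fix)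

theorem z_fixed (θ : FA C H) : C.f (ext θ.1 H.z) = ext θ.1 H.z := by
  have := ext_inv C hH θ H.z (z_mem C hH)
  rw [Inv, hH.z_fix, hH.z_eps, Int.cast_one, one_mul] at this
  exact this.symm

variable {V : Type*} [AddCommGroup V] [Module ℂ V] (π : Representation ℂ ↥(twistedE6 K q) V)
  [FiniteDimensional ℂ V]

/-- Translations remove one class of a family non-trivial at the highest root. -/
theorem mA_update {θ : FA C H} (hz : ext θ.1 H.z ≠ 0) {i : ℕ} (hi : i ∈ H.half) :
    ∃ θ' : FA C H, mA C π θ' = mA C π θ ∧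
      ∀ k ∈ H.ab, ext θ'.1 k = if k ∈ orb i then 0 else ext θ.1 k := by
  have hicls : i ∈ H.cls := List.mem_cons_of_mem _ hi
  obtain ⟨hi1, hi2⟩ := mem_ab hicls
  obtain ⟨-, -, hii, -⟩ := valid C (cls_val hH i hicls)
  let g : AIdx H → K := fun k => if k.1 ∈ orb i then 0 else θ.1 k
  have hg : ∀ k ∈ H.ab, ext g k = if k ∈ orb i then 0 else ext θ.1 k := fun k hk => by
    simp only [ext, dif_pos hk, g]
  have horb : ∀ r, validB r = true → (rho r ∈ orb i ↔ r ∈ orb i) := fun r hr => by
    obtain ⟨-, -, hrr, -⟩ := valid C hr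
    have key : ∀ x, x ∈ orb i ↔ x = i ∨ x = rho i := fun x => by
      rw [orb]; unfold rho
      split <;> rename_i e <;> simp [e]
    rw [key, key]
    constructor
    · rintro (h | h)
      · exact Or.inr (by rw [← h]; exact hrr.symm)
      · exact Or.inl (hrr.symm.trans ((congrArg rho h).trans hii))
    · rintro (h | h)
      · exact Or.inr (by rw [h])
      · exact Or.inl (by rw [h]; exact hii)
  have hgmem : g ∈ FA C H := fun r hr => by
    obtain ⟨h1, h2⟩ := mem_ab hr
    show ext g (rho r) = _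
    rw [hg _ h2, hg _ h1]
    by_cases h : r ∈ orb i
    · rw [if_pos h, if_pos ((horb r (cls_val hH r hr)).2 h), map_zero, mul_zero]
    · rw [if_neg h, if_neg (fun h' => h ((horb r (cls_val hH r hr)).1 h'))]
      exact θ.2 r hr
  refine ⟨⟨g, hgmem⟩, ?_, hg⟩
  obtain ⟨c, hc, htg, hρ, htg', hsgn, hoth⟩ := hH.partner i hi
  obtain ⟨hcv, -⟩ : validB c = true ∧ True := by
    simp only [normB, Bool.and_eq_true] at hc; exact ⟨hc.1, trivial⟩
  obtain ⟨hclt, -⟩ := valid C hcv
  have hlt : i < 72 := ((commList_spec (ab_comm hH)).1 i hi1).2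
  obtain ⟨hn0, hn, -⟩ : tb.ent c i ≠ 0 ∧ (tb.nn c i = 1 ∨ tb.nn c i = -1) ∧ True := by
    have h1 : c < chevE6.nroots := nroots72.1.symm ▸ hclt
    have h2 : i < chevE6.nroots := nroots72.1.symm ▸ hlt
    obtain ⟨e, -⟩ := lctxE6.{v}.tg_spec h1 h2 htg
    exact ⟨e, (lctxE6.{v}.single c h1 i h2 e).2.1, trivial⟩
  have hnsq : (tb.nn c i : K) * (tb.nn c i : K) = 1 := by rcases hn with h | h <;> simp [h]
  set u : K := (tb.nn c i : K) * (ext θ.1 i / ext θ.1 H.z) with hu
  have hfz := z_fixed C hH θ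
  have hti : ext θ.1 (rho i) = (parE6.eps i : K) * C.f (ext θ.1 i) := θ.2 i hicls
  have hsK : (tb.nn (rho c) (rho i) : K) * (parE6.eps c : K) = (parE6.eps i : K) * (tb.nn c i : K) := by
    exact_mod_cast congrArg (Int.cast (R := K)) hsgn
  have hupar : u ∈ par C c := fun e => by
    have hi' := hρ.2 e
    rw [hi', show rho c = c from e] at hsK
    rw [hi'] at hti
    have he : (parE6.eps c : K) = (parE6.eps i : K) := by
      calc (parE6.eps c : K) = ((tb.nn c i : K) * (tb.nn c i : K)) * parE6.eps c := by rw [hnsq, one_mul]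
        _ = (tb.nn c i : K) * ((parE6.eps i : K) * (tb.nn c i : K)) := by rw [mul_assoc, hsK]
        _ = _ := by rw [mul_left_comm, hnsq, mul_one]
    rw [hu, map_mul, map_div₀, map_intCast, hfz, he]
    conv_rhs => rw [hti]
    ring
  refine (mA_class C hH π hc hupar θ ⟨g, hgmem⟩ fun k hk => ?_).symm
  have hzab := z_mem C hH
  have hnz : ∀ x, x ∈ orb i → H.z ≠ x := fun x hx h => by
    obtain ⟨-, hnd, -⟩ := commList_spec (ab_comm hH)
    rw [HData.ab, HData.cls, List.flatMap_cons] at hnd
    exact (List.nodup_append.1 hnd).2.2 H.z (mem_orb_self _).1 H.z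
      (h ▸ List.mem_flatMap.2 ⟨i, hi, hx⟩) rfl
  have hgz : ext g H.z = ext θ.1 H.z := by
    rw [hg _ hzab, if_neg fun h => hnz _ h rfl]
  have hshc : ∀ (a : ℕ → K), sh c u a i = a i + (tb.nn c i : K) * u * a H.z := fun a => by
    rw [sh, htg]
  have hsame : ∀ (d : ℕ) (v : K) (a : ℕ → K) (x : ℕ), tb.tg d x = none → sh d v a x = a x :=
    fun d v a x h => by rw [sh, h]
  obtain ⟨m1, m2⟩ := mem_orb_self i
  by_cases hρi : rho i = i
  · have hρc := hρ.1 hρi
    have ho : orb i = [i] := if_pos hρi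
    rw [orbW, if_pos hρc, shL, List.foldl_cons, List.foldl_nil]
    by_cases hki : k = i
    · subst hki
      rw [hshc, hg _ hk, if_pos m1, hgz, zero_add, hu, ← mul_assoc, hnsq, one_mul,
        div_mul_cancel₀ _ hz]
    · have hnone : tb.tg c k = none := by
        rcases hoth k hk c (mem_orb_self c).1 with h | h | h
        · exact h
        · exact absurd h.2 hki
        · exact absurd (h.2.trans hρi) hki
      rw [hsame _ _ _ _ hnone, hg _ hk, if_neg (by rw [ho]; simpa using hki)]
  · have hρc : rho c ≠ c := fun h => hρi (hρ.2 h)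
    have ho : orb i = [i, rho i] := if_neg hρi
    rw [orbW, if_neg hρc, shL, List.foldl_cons, List.foldl_cons, List.foldl_nil]
    have hnone : ∀ x ∈ H.ab, x ≠ i → tb.tg c x = none := fun x hx hne => by
      rcases hoth x hx c (mem_orb_self c).1 with h | h | h
      · exact h
      · exact absurd h.2 hne
      · exact absurd h.1.symm hρc
    have hnone' : ∀ x ∈ H.ab, x ≠ rho i → tb.tg (rho c) x = none := fun x hx hne => by
      rcases hoth x hx (rho c) (mem_orb_self c).2 with h | h | h
      · exact h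
      · exact absurd h.1 hρc
      · exact absurd h.2 hne
    have hti' := htg'.resolve_left hρi
    have hzne : H.z ≠ i := hnz _ m1
    by_cases hki : k = i
    · subst hki
      rw [hsame _ _ _ _ (hnone' _ hk (Ne.symm hρi)), hshc, hg _ hk, if_pos m1, hgz, zero_add, hu,
        ← mul_assoc, hnsq, one_mul, div_mul_cancel₀ _ hz]
    by_cases hki' : k = rho i
    · subst hki'
      rw [show ∀ (v : K) (a : ℕ → K), sh (rho c) v a (rho i) =
        a (rho i) + (tb.nn (rho c) (rho i) : K) * v * a H.z from fun v a => by rw [sh, hti']]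
      rw [hsame _ _ _ _ (hnone _ hk hki), hsame _ _ _ _ (hnone _ hzab hzne), hg _ hk, if_pos m2, hgz,
        zero_add, ← mul_assoc (tb.nn (rho c) (rho i) : K), hsK, hu, map_mul, map_intCast, map_div₀,
        hfz, hti]
      rw [show (parE6.eps i : K) * (tb.nn c i : K) *
          ((tb.nn c i : K) * (C.f (ext θ.1 i) / ext θ.1 H.z)) * ext θ.1 H.z =
        ((tb.nn c i : K) * (tb.nn c i : K)) * ((parE6.eps i : K) *
          (C.f (ext θ.1 i) / ext θ.1 H.z * ext θ.1 H.z)) by ring, hnsq, one_mul,
        div_mul_cancel₀ _ hz]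
    · rw [hsame _ _ _ _ (hnone' _ hk hki'), hsame _ _ _ _ (hnone _ hk hki), hg _ hk,
        if_neg (by rw [ho]; simp [hki, hki'])]

/-- Families non-trivial at the highest root only depend on that value. -/
theorem mA_reduce {θ : FA C H} (hz : ext θ.1 H.z ≠ 0) :
    ∃ θ' : FA C H, mA C π θ' = mA C π θ ∧
      ∀ k ∈ H.ab, ext θ'.1 k = if k = H.z then ext θ.1 H.z else 0 := by
  obtain ⟨-, hnd, -⟩ := commList_spec (ab_comm hH)
  have hz' : orb H.z = [H.z] := if_pos hH.z_fix
  rw [HData.ab, HData.cls, List.flatMap_cons, hz', List.singleton_append, List.nodup_cons] at hnd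
  have key : ∀ l : List ℕ, (∀ i ∈ l, i ∈ H.half) →
      ∃ θ' : FA C H, mA C π θ' = mA C π θ ∧
        ∀ k ∈ H.ab, ext θ'.1 k = if k ∈ l.flatMap orb then 0 else ext θ.1 k := by
    intro l
    induction l with
    | nil => exact fun _ => ⟨θ, rfl, fun k _ => by simp⟩
    | cons i l ih =>
      intro hl
      obtain ⟨θ1, e1, h1⟩ := ih fun x hx => hl x (List.mem_cons_of_mem _ hx)
      have hz1 : ext θ1.1 H.z ≠ 0 := by
        rw [h1 _ (z_mem C hH), if_neg]
        · exact hz
        · intro h
          obtain ⟨x, hx, hzx⟩ := List.mem_flatMap.1 h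
          exact hnd.1 (List.mem_flatMap.2 ⟨x, hl x (List.mem_cons_of_mem _ hx), hzx⟩)
      obtain ⟨θ2, e2, h2⟩ := mA_update C hH π hz1 (hl i List.mem_cons_self)
      refine ⟨θ2, e2.trans e1, fun k hk => ?_⟩
      rw [h2 k hk, h1 k hk, List.flatMap_cons]
      simp only [List.mem_append]
      by_cases ha : k ∈ orb i <;> simp [ha]
  obtain ⟨θ', e, h⟩ := key H.half fun _ h => h
  refine ⟨θ', e, fun k hk => ?_⟩
  rw [h k hk]
  by_cases hkz : k = H.z
  · subst hkz
    rw [if_neg hnd.1, if_pos rfl]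
  · rw [if_neg hkz, if_pos]
    rw [HData.ab, HData.cls, List.flatMap_cons, hz', List.singleton_append] at hk
    exact (List.mem_cons.1 hk).resolve_left hkz

/-- All families non-trivial at the highest root, or at the simple one, occur equally often. -/
theorem exists_common (hinj : Function.Injective π) :
    ∃ r, 1 ≤ r ∧ ∀ θ : FA C H, (ext θ.1 H.z ≠ 0 ∨ ext θ.1 H.a ≠ 0) → mA C π θ = r := by
  classical
  obtain ⟨θ1, hθ1⟩ := exists_zfam C hH (map_one C.f)
  have hzab := z_mem C hH
  have hz : ∀ θ : FA C H, ext θ.1 H.z ≠ 0 → mA C π θ = mA C π θ1 := by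
    intro θ hθ
    obtain ⟨θ', e, h'⟩ := mA_reduce C hH π hθ
    rw [← e]
    set w : Kˣ := Units.mk0 _ hθ with hw
    have hwf : C.fu w = w := Units.ext (z_fixed C hH θ)
    obtain ⟨u, hu, huf⟩ : ∃ u : Kˣ, u ^ pairing 0 H.z = w ∧ C.fu u = u := by
      rcases hH.pair_z with h | h
      · exact ⟨w, by rw [h, zpow_one], hwf⟩
      · exact ⟨w⁻¹, by rw [h, zpow_neg, zpow_one, inv_inv], by rw [map_inv, hwf]⟩
    refine mA_monomial C hH π ⟨_, torE_mem C huf 0⟩ id
      (fun k => ((u ^ pairing 0 k : Kˣ) : K)) (fun _ h => h)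
      (fun k hk c => torE_conj C u 0 ((commList_spec (ab_comm hH)).1 k hk).2 c) θ' θ1 fun k hk => ?_
    rw [h' k hk, show ext θ1.1 (id k) = ext θ1.1 k from rfl, hθ1 k hk]
    by_cases hkz : k = H.z
    · subst hkz; rw [if_pos rfl, if_pos rfl, one_mul, hu]; rfl
    · rw [if_neg hkz, if_neg hkz, zero_mul]
  refine ⟨mA C π θ1, ?_, fun θ h => ?_⟩
  · by_contra hlt
    obtain ⟨fz, hfz, hlz⟩ := exists_single C hH (r := H.z) List.mem_cons_self (t := 1)
      (fun e => by rw [map_one, hH.z_eps, Int.cast_one, one_mul])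
    have hR0 := opA_zero C hH π
    have h1 : opA C π fz = 1 := by
      calc opA C π fz = opA C π fz * ∑ χ, proj (opA C π) χ := by rw [sum_proj hR0, mul_one]
        _ = ∑ χ, proj (opA C π) χ := by
          rw [Finset.mul_sum]
          refine Finset.sum_congr rfl fun χ _ => ?_
          obtain ⟨θ, rfl⟩ := (chr_bijective C hH).2 χ
          by_cases hθ : ext θ.1 H.z = 0
          · rw [mul_proj (opA_add C hH π), show chr C θ fz = 1 by
              show Psi K (lam (ext θ.1) (wordL H.ab (ext fz.1))) = 1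
              rw [hlz, orbW, if_pos hH.z_fix]
              simp [lam, hθ], one_smul]
          · have h0 : mA C π θ = 0 := by rw [hz θ hθ]; omega
            rw [mA] at h0
            rw [proj_eq_zero h0, mul_zero]
        _ = 1 := sum_proj hR0
    have hv : validB H.z = true := cls_val hH _ List.mem_cons_self
    rw [opA, hfz, ← map_one π] at h1
    have h2 := congrArg Subtype.val (hinj h1)
    rw [eltG_val C hv (fun e => by rw [map_one, hH.z_eps, Int.cast_one, one_mul]), elt,
      if_pos (show parE6.rho H.z = H.z from hH.z_fix)] at h2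
    exact one_ne_zero (DataE6.facts.xU_eq_one (nroots72.1.symm ▸ hH.z_lt) h2)
  · by_cases hθ : ext θ.1 H.z = 0
    swap
    · exact hz θ hθ
    have ha := h.resolve_left (not_not_intro hθ)
    obtain ⟨n, e, hn⟩ := exists_word C H.word
    obtain ⟨hl1, -, -⟩ := commList_spec (ab_comm hH)
    have hw : ∀ k ∈ H.ab, oImg H.word k ∈ H.ab := fun k hk => (hH.word_ab k hk).1
    -- conjugation induces an endomorphism of the parameters
    have hconj : ∀ φ : FA C H, ∃ φ' : FA C H, n * el C H φ * n⁻¹ = el C H φ' ∧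
        ∀ a : ℕ → K, lam a ((wordL H.ab (ext φ.1)).map fun p => (oImg H.word p.1, e p.1 * p.2)) =
          lam a (wordL H.ab (ext φ'.1)) := fun φ => exists_el C hH
      (fun p hp => by
        simp only [wordL, List.map_map, List.mem_map, Function.comp_apply] at hp
        obtain ⟨k, hk, rfl⟩ := hp
        exact hw k hk) (by
      rw [Subgroup.coe_mul, Subgroup.coe_mul, Subgroup.coe_inv, el_val C hH]
      have step : ∀ L' : List ℕ, (∀ r ∈ L', r ∈ H.ab) →
          (n : GL chevE6.Idx K) * wU chevE6 (wordL L' (ext φ.1)) * (n : GL chevE6.Idx K)⁻¹ =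
            wU chevE6 ((wordL L' (ext φ.1)).map fun p => (oImg H.word p.1, e p.1 * p.2)) := by
        intro L'
        induction L' with
        | nil => intro _; simp [wordL, wU]
        | cons k L' ih =>
          intro hs
          have := ih fun r hr => hs r (List.mem_cons_of_mem _ hr)
          simp only [wordL, List.map_cons, wU_cons'] at this ⊢
          rw [← this, ← (hn k (hl1 k (hs k List.mem_cons_self)).2).2.2]
          group
      exact step H.ab fun _ h => h)
    choose φ' h1 h2 using hconj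
    have hadd : ∀ f f', φ' (f + f') = φ' f + φ' f' := fun f f' => el_injective C hH (by
      rw [el_add C hH, ← h1, el_add C hH, ← h1, ← h1]; group)
    obtain ⟨θ'', hθ''⟩ := (chr_bijective C hH).2
      { toFun := fun f => chr C θ (φ' f)
        map_zero_eq_one' := by
          rw [show φ' 0 = 0 from (AddMonoidHom.mk' φ' hadd).map_zero, AddChar.map_zero_eq_one]
        map_add_eq_mul' := fun f f' => by rw [hadd, AddChar.map_add_eq_mul] }
    have hmv : mA C π θ'' = mA C π θ :=
      mA_move C hH π n θ'' θ fun f => ⟨φ' f, h1 f, DFunLike.congr_fun hθ'' f⟩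
    rw [← hz θ'' ?_, hmv]
    -- the new family is non-trivial at the highest root
    intro h0
    obtain ⟨-, he, hcj⟩ := hn H.z hH.z_lt
    rw [hH.word_z] at hcj
    have hav := cls_val hH H.a (List.mem_cons_of_mem _ hH.a_mem)
    have hzv := cls_val hH H.z List.mem_cons_self
    have h1z : (1 : K) ∈ par C H.z := fun _ => by rw [map_one, hH.z_eps, Int.cast_one, one_mul]
    obtain ⟨f1, hf1, hl1'⟩ := exists_single C hH (r := H.z) List.mem_cons_self h1z
    have hea : C.f (e H.z) = e H.z := by
      have hcls : clsList [H.a] = true := by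
        simp only [clsList, commList, List.all_cons, List.all_nil, Bool.and_true, Bool.and_eq_true,
          List.flatMap_cons, List.flatMap_nil, List.append_nil, hav, true_and]
        rw [show orb H.a = [H.a] from if_pos hH.a_fix]
        obtain ⟨b1, b2⟩ := hl1 H.a (a_mem_ab C hH)
        obtain ⟨c1, c2⟩ := (commList_spec (ab_comm hH)).2.2 H.a (a_mem_ab C hH) H.a (a_mem_ab C hH)
        simp [Nat.ble_eq, blt_iff, b1, b2, c1, c2]
      have := fixed_coords C hcls (f := fun _ => e H.z) (by
        rw [show [H.a].flatMap orb = [H.a] by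
          simp [show orb H.a = [H.a] from if_pos hH.a_fix]]
        have hmem := (n * eltG C H.z 1 * n⁻¹).2
        rw [Subgroup.coe_mul, Subgroup.coe_mul, Subgroup.coe_inv, eltG_val C hzv h1z, elt,
          if_pos (show parE6.rho H.z = H.z from hH.z_fix), hcj, mul_one] at hmem
        simpa [wordL, wU] using hmem) H.a (by simp)
      rw [Inv, hH.a_eps, Int.cast_one, one_mul] at this
      exact this.symm
    have hta : C.f (ext θ.1 H.a) = ext θ.1 H.a := by
      have := ext_inv C hH θ H.a (a_mem_ab C hH)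
      rw [Inv, hH.a_fix, hH.a_eps, Int.cast_one, one_mul] at this
      exact this.symm
    have htp : (e H.z * ext θ.1 H.a)⁻¹ ∈ par C H.z := fun _ => by
      rw [map_inv₀, map_mul, hea, hta, hH.z_eps, Int.cast_one, one_mul]
    obtain ⟨f, hf, hlf⟩ := exists_single C hH (r := H.z) List.mem_cons_self htp
    have e1 := DFunLike.congr_fun hθ'' f
    have eL : chr C θ'' f = 1 := by
      show Psi K (lam (ext θ''.1) (wordL H.ab (ext f.1))) = 1
      rw [hlf, orbW, if_pos hH.z_fix]
      simp [lam, h0]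
    refine psi_one (K := K) ?_
    rw [eL] at e1
    refine Eq.trans ?_ e1.symm
    show Psi K (1 : K) = Psi K (lam (ext θ.1) (wordL H.ab (ext (φ' f).1)))
    rw [← h2]
    congr 1
    have : ∀ w : List (ℕ × K), lam (ext θ.1) (w.map fun p => (oImg H.word p.1, e p.1 * p.2)) =
        lam (fun k => ext θ.1 (oImg H.word k) * e k) w := fun w => by
      simp [lam, List.map_map, Function.comp_def, mul_assoc]
    rw [this, hlf, orbW, if_pos hH.z_fix]
    simp only [lam, List.map_cons, List.map_nil, List.sum_cons, List.sum_nil, add_zero, hH.word_z]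
    rw [mul_comm (ext θ.1 H.a) (e H.z), mul_inv_cancel₀ (mul_ne_zero he ha)]

/-- The dimension splits off the families non-trivial at the highest root. -/
theorem finrank_fixed_z (hinj : Function.Injective π) :
    ∃ r, 1 ≤ r ∧
      (∀ θ : FA C H, (ext θ.1 H.z ≠ 0 ∨ ext θ.1 H.a ≠ 0) → mA C π θ = r) ∧
      Module.finrank ℂ (fixedS C π [H.z]) + r * ((q - 1) * q ^ (H.ab.length - 1)) =
        Module.finrank ℂ V ∧
      r * ((q - 1) * q ^ (H.ab.length - 2)) ≤ Module.finrank ℂ (fixedS C π [H.z]) := by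
  classical
  obtain ⟨r, hr1, hr⟩ := exists_common C hH π hinj
  refine ⟨r, hr1, hr, ?_⟩
  have hadd := opA_add C hH π
  have hR0 := opA_zero C hH π
  set R := opA C π (H := H) with hR
  have hzab := z_mem C hH
  have haab := a_mem_ab C hH
  have hzv := cls_val hH H.z List.mem_cons_self
  set S := Finset.univ.filter fun θ : FA C H => ext θ.1 H.z = 0 with hS
  set E : Module.End ℂ V := ∑ θ ∈ S, proj R (chr C θ) with hE
  have hall : ∑ θ : FA C H, proj R (chr C θ) = 1 := by
    rw [Function.Bijective.sum_comp (chr_bijective C hH) (fun χ => proj R χ), sum_proj hR0]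
  have hop : ∀ t ∈ par C H.z, ∃ f : FA C H, R f = π (eltG C H.z t) ∧
      ∀ θ : FA C H, chr C θ f = Psi K (ext θ.1 H.z * t) := fun t ht => by
    obtain ⟨f, hf, hl⟩ := exists_single C hH (r := H.z) List.mem_cons_self ht
    refine ⟨f, by rw [hR, opA, hf], fun θ => ?_⟩
    show Psi K (lam (ext θ.1) (wordL H.ab (ext f.1))) = _
    rw [hl, orbW, if_pos hH.z_fix]
    simp [lam]
  have hproj : LinearMap.IsProj (fixedS C π [H.z]) E := by
    refine ⟨fun v => ?_, fun v hv => ?_⟩
    · rw [mem_fixedS]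
      intro r hr _ t ht
      obtain rfl := List.mem_singleton.1 hr
      obtain ⟨f, hf, hχ⟩ := hop t ht
      rw [hE, LinearMap.sum_apply, map_sum]
      refine Finset.sum_congr rfl fun θ hθ => ?_
      rw [← Module.End.mul_apply, ← hf, mul_proj hadd, hχ, (Finset.mem_filter.1 hθ).2, zero_mul,
        AddChar.map_zero_eq_one, one_smul]
    · conv_rhs => rw [← Module.End.one_apply (R := ℂ) v, ← hall]
      rw [hE, LinearMap.sum_apply, LinearMap.sum_apply]
      refine Finset.sum_subset (Finset.subset_univ _) fun θ _ hθ => ?_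
      have hne : ext θ.1 H.z ≠ 0 := fun h => hθ (Finset.mem_filter.2 ⟨Finset.mem_univ _, h⟩)
      obtain ⟨t, ht, htne⟩ : ∃ t ∈ par C H.z, Psi K (ext θ.1 H.z * t) ≠ 1 := by
        obtain ⟨t, ht, h⟩ := psi_nondeg C hzv (ext_inv C hH θ _ hzab) hne
        refine ⟨t, ht, ?_⟩
        rwa [orbW, if_pos hH.z_fix, lam, List.map_cons, List.map_nil, List.sum_cons, List.sum_nil,
          add_zero] at h
      obtain ⟨f, hf, hχ⟩ := hop t ht
      have e1 : proj R (chr C θ) v = chr C θ f • proj R (chr C θ) v := by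
        calc proj R (chr C θ) v = proj R (chr C θ) (R f v) := by
              rw [hf, hv _ (List.mem_singleton_self _) hzv t ht]
          _ = _ := by rw [← Module.End.mul_apply, proj_mul hadd, LinearMap.smul_apply]
      have e2 : (chr C θ f - 1) • proj R (chr C θ) v = 0 := by rw [sub_smul, one_smul, ← e1, sub_self]
      rw [hχ] at e2
      exact (smul_eq_zero.1 e2).resolve_left (sub_ne_zero.2 htne)
  have hfix : Module.finrank ℂ (fixedS C π [H.z]) = ∑ θ ∈ S, mA C π θ := by
    have := hproj.trace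
    rw [hE, map_sum] at this
    rw [Finset.sum_congr rfl fun θ _ => trace_proj hadd (chr C θ)] at this
    exact_mod_cast this.symm
  have hab1 : 2 ≤ H.ab.length := by
    have h : ([H.z, H.a] : List ℕ).Nodup := by simpa using Ne.symm (a_ne_z C hH)
    simpa using (h.subperm (l₂ := H.ab) (by simp [List.cons_subset, hzab, haab])).length_le
  have hScard : S.card = q ^ (H.ab.length - 1) := by
    have := card_zero_on C hH [H.z] (by simpa using hzab) (by simp) (by simpa using hH.z_fix)
    rw [Nat.card_eq_fintype_card, Fintype.card_subtype] at this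
    simpa [hS] using this
  have htotcard : Fintype.card (FA C H) = q ^ H.ab.length := by
    have := card_zero_on C hH [] (by simp) (by simp) (by simp)
    simp only [List.not_mem_nil, IsEmpty.forall_iff, implies_true, List.length_nil, Nat.sub_zero] at this
    rw [← this, Nat.card_congr (Equiv.subtypeUnivEquiv fun _ => trivial), Nat.card_eq_fintype_card]
  have hnz : ∀ θ ∈ Sᶜ, mA C π θ = r := fun θ hθ => hr θ (Or.inl (by simpa [hS] using hθ))
  refine ⟨?_, ?_⟩
  · have htot : Module.finrank ℂ V = (∑ θ ∈ S, mA C π θ) + Sᶜ.card * r := by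
      rw [← sum_mult hadd hR0, ← Function.Bijective.sum_comp (chr_bijective C hH) (fun χ => mult R χ)]
      show ∑ θ, mA C π θ = _
      rw [← Finset.sum_add_sum_compl S (fun θ => mA C π θ), Finset.sum_const_nat hnz]
    have hcompl : Sᶜ.card = (q - 1) * q ^ (H.ab.length - 1) := by
      rw [Finset.card_compl, htotcard, hScard, Nat.sub_mul, one_mul, ← pow_succ',
        Nat.sub_add_cancel (by omega : 1 ≤ H.ab.length)]
    rw [hfix, htot, hcompl]; ring
  · rw [hfix]
    set S' := Finset.univ.filter fun θ : FA C H => ext θ.1 H.z = 0 ∧ ext θ.1 H.a = 0 with hS'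
    have hsub : S' ⊆ S := Finset.monotone_filter_right _ fun θ _ h => h.1
    have hS'card : S'.card = q ^ (H.ab.length - 2) := by
      have := card_zero_on C hH [H.z, H.a] (by simp [hzab, haab])
        (by simpa using Ne.symm (a_ne_z C hH)) (by simp [hH.z_fix, hH.a_fix])
      rw [Nat.card_eq_fintype_card, Fintype.card_subtype] at this
      simpa [hS'] using this
    refine le_trans (le_of_eq ?_) (Finset.sum_le_sum_of_subset (Finset.sdiff_subset (t := S')))
    rw [Finset.sum_congr rfl (g := fun _ => r), Finset.sum_const, smul_eq_mul,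
      Finset.card_sdiff_of_subset hsub, hScard, hS'card,
      show H.ab.length - 1 = (H.ab.length - 2) + 1 by omega, pow_succ', ← one_mul (q ^ (H.ab.length - 2)),
      ← mul_assoc q, mul_one, ← Nat.sub_mul, one_mul, mul_comm r]
    intro θ hθ
    obtain ⟨h1, h2⟩ := Finset.mem_sdiff.1 hθ
    exact hr θ (Or.inr fun h => h2 (Finset.mem_filter.2
      ⟨Finset.mem_univ _, (Finset.mem_filter.1 h1).2, h⟩))

end CfsgLib.Known.TwLieDegree
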