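/-
Conjugation of a pair class by a fixed class when the image classes do not commute.
-/
import Mathlib
import Cfsg.Agent.Lib.Known.TwLieDegree.Eig

set_option autoImplicit false
set_option maxRecDepth 20000
set_option maxHeartbeats 1000000
set_option linter.unusedSectionVars false

namespace CfsgLib.Known.TwLieDegree

open Cfsg.Lie CfsgLib.Chev CfsgLib.Chev.Table CfsgLib.Known.RootLift.E6

universe v

/-- The fixed class of `δ` moves the pair `r` to a pair meeting it in a root of `Z`. -/
def swapB (S Z : List ℕ) (δ r : ℕ) : Bool :=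
  validB δ && validB r && (rho δ == δ) && !(rho r == r) && S.contains r &&
  Nat.blt (rho r) 72 && !(r == tb.neg δ) && !(rho r == tb.neg δ) &&
  match tb.tg δ r, tb.tg δ (rho r) with
  | some k, some k' =>
    match tb.tg (rho r) k with
    | some z =>
      !(k == tb.neg (rho r)) && Nat.blt k 72 && Z.contains z && clsList [clsRep k, clsRep z] &&
        S.contains (clsRep k) && S.contains (clsRep z) &&
        [k, k', z].all fun x => ([clsRep k, clsRep z].flatMap orb).contains x
    | none => false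
  | _, _ => false

/-- Either way of moving one class by another. -/
def cvB (S Z : List ℕ) (δ r : ℕ) : Bool := convOK S δ r || swapB S Z δ r

/-- The class of `δ` maps the classes of `S'` into the roots of `S`. -/
def step2B (S S' Z : List ℕ) (δ : ℕ) : Bool :=
  validB δ && S'.all fun r => validB r && cvB S Z δ r

variable {K : Type v} [Field K] [Fintype K] {q : ℕ} (C : TwE6.Ctx K q)
include C

variable {V : Type*} [AddCommGroup V] [Module ℂ V] (π : Representation ℂ ↥(twistedE6 K q) V)

/-- The action of a conjugated class element in the exceptional case. -/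
theorem Eigen.conjS {S Z : List ℕ} {a : ℕ → K} {v : V} (hv : Eigen C π S a v) {δ r : ℕ}
    (h : swapB S Z δ r = true) (hZ : ∀ z ∈ Z, a z = 0) {t u : K} (ht : t ∈ par C δ)
    (hu : u ∈ par C r) :
    π (eltG C δ t * eltG C r u * (eltG C δ t)⁻¹) v =
      Psi K (lam (shL (orbW C δ t) a) (orbW C r u)) • v := by
  rcases hk : tb.tg δ r with _ | k
  · simp [swapB, hk] at h
  rcases hk' : tb.tg δ (rho r) with _ | k'
  · simp [swapB, hk, hk'] at h
  rcases hz : tb.tg (rho r) k with _ | z
  · simp [swapB, hk, hk', hz] at h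
  simp only [swapB, hk, hk', hz, Bool.and_eq_true, beq_iff_eq, Bool.not_eq_true', beq_eq_false_iff_ne,
    List.contains_iff_mem, List.all_eq_true, blt_iff] at h
  obtain ⟨⟨⟨⟨⟨⟨⟨⟨hδ, hr⟩, hρδ⟩, hρr⟩, hrS⟩, hρlt⟩, n1⟩, n2⟩, ⟨⟨⟨⟨⟨hkn, hklt⟩, hzZ⟩, hcl⟩, hkS⟩, hzS⟩, hmem⟩ := h
  obtain ⟨hδlt, -⟩ := valid C hδ
  obtain ⟨hrlt, -⟩ := valid C hr
  set t' : K := (parE6.eps r : K) * C.f u with ht'
  have ho : orbW C r u = [(r, u), (rho r, t')] := if_neg hρr
  set g := eltG C δ t * eltG C r u * (eltG C δ t)⁻¹ with hg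
  have hgv : (g : GL chevE6.Idx K) = wU chevE6 (conv δ t (orbW C r u)) := by
    rw [hg, Subgroup.coe_mul, Subgroup.coe_mul, Subgroup.coe_inv, eltG_val C hδ ht, eltG_val C hr hu,
      orbW_val C r, elt, if_pos (show parE6.rho δ = δ from hρδ), xU_conv hδlt t fun p hp => ?_]
    rw [ho] at hp
    simp at hp
    rcases hp with rfl | rfl
    exacts [⟨hrlt, n1⟩, ⟨hρlt, n2⟩]
  have hρr' : rho r < chevE6.nroots := nroots72.1.symm ▸ hρlt
  set α : K := (tb.nn δ r : K) * t * u with hα
  set β : K := (tb.nn δ (rho r) : K) * t * t' with hβ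
  set w := conv (rho r) (-t') [(k, α)] ++ [(k', β)] with hw
  set g' := (eltG C r u)⁻¹ * g with hg'
  have hg'v : (g' : GL chevE6.Idx K) = wU chevE6 w := by
    rw [hg', Subgroup.coe_mul, Subgroup.coe_inv, hgv, eltG_val C hr hu, orbW_val C r, hw, wU_append,
      ← xU_conv hρlt (-t') fun p hp => ?_]
    · rw [show conv δ t (orbW C r u) = [(r, u), (k, α), (rho r, t'), (k', β)] by
          simp [ho, conv, hk, hk', hα, hβ],
        show (xU chevE6 (rho r) (-t') : GL chevE6.Idx K) = (xU chevE6 (rho r) t')⁻¹ by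
          rw [DataE6.facts.xU_inv hρr'], ho]
      simp only [wU_cons', show wU chevE6 ([] : List (ℕ × K)) = 1 by simp [wU], mul_one]
      group
    · simp at hp
      subst hp
      exact ⟨hklt, hkn⟩
  have hwz : w = [(k, α), (z, (tb.nn (rho r) k : K) * -t' * α), (k', β)] := by
    simp [hw, conv, hz]
  have hroots : ∀ p ∈ w, p.1 ∈ [clsRep k, clsRep z].flatMap orb := fun p hp => by
    rw [hwz] at hp
    simp at hp
    rcases hp with rfl | rfl | rfl <;> exact hmem _ (by simp)
  have e1 := regroup C π hv hcl (by simp [hkS, hzS]) hroots hg'v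
  rw [show g = eltG C r u * g' by rw [hg', mul_inv_cancel_left], map_mul, Module.End.mul_apply, e1,
    map_smul, hv r hrS hr u hu, smul_smul, ← AddChar.map_add_eq_mul]
  congr 2
  rw [hwz, ho, show orbW C δ t = [(δ, t)] from if_pos hρδ]
  simp [lam, shL, sh, hk, hk', hZ z hzZ, hα, hβ]
  ring

/-- The action of a conjugated class element. -/
theorem Eigen.conj2 {S Z : List ℕ} {a : ℕ → K} {v : V} (hv : Eigen C π S a v) {δ r : ℕ}
    (hδ : validB δ = true) (hr : validB r = true) (h : cvB S Z δ r = true) (hZ : ∀ z ∈ Z, a z = 0)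
    {t u : K} (ht : t ∈ par C δ) (hu : u ∈ par C r) :
    π (eltG C δ t * eltG C r u * (eltG C δ t)⁻¹) v =
      Psi K (lam (shL (orbW C δ t) a) (orbW C r u)) • v := by
  simp only [cvB, Bool.or_eq_true] at h
  rcases h with h | h
  exacts [hv.conj C π hδ hr h ht hu, hv.conjS C π h hZ ht hu]

/-- Conjugation by a class element, allowing the exceptional case. -/
theorem Eigen.step2 {S S' Z : List ℕ} {a : ℕ → K} {v : V} (hv : Eigen C π S a v) {δ : ℕ}
    (h : step2B S S' Z δ = true) (hZ : ∀ z ∈ Z, a z = 0) {t : K} (ht : t ∈ par C δ) :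
    Eigen C π S' (shL (orbW C δ t) a) (π (eltG C δ t)⁻¹ v) := by
  simp only [step2B, Bool.and_eq_true, List.all_eq_true] at h
  exact Eigen.moveP C π _ fun r hr hval u hu => hv.conj2 C π h.1 hval (h.2 r hr).2 hZ ht hu

end CfsgLib.Known.TwLieDegree
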