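/-
Root classes of ²E₆ acting by scalars on an eigenline, and those acting trivially.
-/
import Mathlib
import Cfsg.Agent.Lib.Known.TwLieDegree.HeisCount
import Cfsg.Agent.Lib.Known.TwLieDegree.Swap

set_option autoImplicit false
set_option maxRecDepth 20000
set_option maxHeartbeats 1000000
set_option linter.unusedSectionVars false

namespace CfsgLib.Known.TwLieDegree

open Cfsg.Lie CfsgLib.Chev CfsgLib.Chev.Table CfsgLib.Known.RootLift.E6 CfsgLib.Known.D4Degree

universe v

/-- The functional with one component. -/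
def ind {R : Type*} [Zero R] (g : ℕ) (c : R) : ℕ → R := fun k => if k = g then c else 0

/-- The positive classes. -/
def posC : List ℕ :=
  [36, 37, 38, 39, 40, 41, 44, 45, 46, 47, 48, 49, 51, 52, 53, 54, 55, 60, 63, 65, 66, 69, 70, 71]

/-- The roots of a class keep the roots in `R` away from `g`. -/
def stayB (g : ℕ) (R : List ℕ) (δ : ℕ) : Bool :=
  R.all fun r => (orb δ).all fun d => match tb.tg d r with
    | none => true
    | some k => R.contains k && !(k == g)

/-- The action of one root on an integral functional. -/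
def shZ (d : ℕ) (u : ℤ) (a : ℕ → ℤ) (r : ℕ) : ℤ :=
  match tb.tg d r with
  | none => a r
  | some k => a r + tb.nn d r * u * a k

/-- The action of a word on an integral functional. -/
def shZL (ds : List (ℕ × ℤ)) (a : ℕ → ℤ) : ℕ → ℤ := ds.foldl (fun a p => shZ p.1 p.2 a) a

/-- The word of the class element with parameter one. -/
def oneW (x : ℕ) : List (ℕ × ℤ) := if rho x = x then [(x, 1)] else [(x, 1), (rho x, parE6.eps x)]

/-- The class of `r` is reached as the conjugate of the class of `y` by that of `x`. -/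
def kB (r x y : ℕ) : Bool :=
  validB r && validB x && validB y && !(rho y == y) && (!(rho x == x) || parE6.eps x == 1) &&
  (!(rho r == r) || parE6.eps r == 1) && convOK [y, r] x y && clsList [y, r] &&
  (shZL (oneW x) (ind y 1) y == 1) && (shZL (oneW x) (ind y 1) (rho y) == 0) &&
  (let c1 := shZL (oneW x) (ind r 1) y
   let c2 := shZL (oneW x) (ind r 1) (rho y)
   (c1 == 1 || c1 == -1) && if rho r == r then c2 * parE6.eps y == c1 else c2 == 0)

variable {K : Type v} [Field K] [Fintype K]

theorem shL_cast : ∀ (ds : List (ℕ × ℤ)) (a : ℕ → ℤ) (r : ℕ),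
    shL (ds.map fun p => (p.1, (p.2 : K))) (fun k => (a k : K)) r = (shZL ds a r : K)
  | [], a, r => rfl
  | p :: ds, a, r => by
    show shL (ds.map fun p => (p.1, (p.2 : K))) (sh p.1 (p.2 : K) fun k => (a k : K)) r =
      (shZL ds (shZ p.1 p.2 a) r : K)
    rw [← shL_cast ds]
    congr 1
    funext k
    unfold sh shZ
    rcases tb.tg p.1 k with _ | j <;> simp

theorem ind_cast (g : ℕ) : ind g (1 : K) = fun k => ((ind g (1 : ℤ) k : ℤ) : K) := by
  funext k; unfold ind; split <;> simp

variable {q : ℕ} (C : TwE6.Ctx K q)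
include C

theorem par_one {r : ℕ} (h : rho r = r → parE6.eps r = 1) : (1 : K) ∈ par C r := fun e => by
  rw [h e, map_one, Int.cast_one, one_mul]

theorem oneW_cast {x : ℕ} :
    (oneW x).map (fun p => (p.1, (p.2 : K))) = orbW C x 1 := by
  unfold oneW orbW; split <;> simp

theorem eltG_add {r : ℕ} (h : validB r = true) {s t : K} (hs : s ∈ par C r) (ht : t ∈ par C r) :
    eltG C r (s + t) = eltG C r s * eltG C r t := Subtype.ext (by
  rw [Subgroup.coe_mul, eltG_val C h (add_mem hs ht), eltG_val C h hs, eltG_val C h ht, elt_add C h])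

theorem eltG_zero {r : ℕ} (h : validB r = true) : eltG C r (0 : K) = 1 := by
  have := eltG_add C h (zero_mem (par C r)) (zero_mem _)
  rwa [add_zero, left_eq_mul] at this

theorem eltG_neg {r : ℕ} (h : validB r = true) {t : K} (ht : t ∈ par C r) :
    (eltG C r (-t))⁻¹ = eltG C r t := by
  refine inv_eq_of_mul_eq_one_right ?_
  rw [← eltG_add C h (neg_mem ht) ht, neg_add_cancel, eltG_zero C h]

theorem lam_congr {a b : ℕ → K} {r : ℕ} (h : ∀ k ∈ orb r, a k = b k) (t : K) :
    lam a (orbW C r t) = lam b (orbW C r t) :=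
  congrArg List.sum (List.map_congr_left fun p hp => by rw [h _ (orbW_mem C r t p hp)])

/-- A functional supported on fixed roots is compatible. -/
theorem inv_supp {a : ℕ → K}
    (ha : ∀ k, a k ≠ 0 → rho k = k ∧ parE6.eps k = 1 ∧ C.f (a k) = a k) {r : ℕ}
    (hr : validB r = true) : Inv C a r := by
  show a (rho r) = _
  by_cases h : a r = 0
  · rw [h, map_zero, mul_zero]
    by_contra h'
    obtain ⟨e, -⟩ := ha _ h'
    have e' : rho r = r := e.symm.trans (valid C hr).2.2.1
    exact h' ((congrArg a e').trans h)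
  · obtain ⟨e1, e2, e3⟩ := ha r h
    rw [e1, e2, e3, Int.cast_one, one_mul]

theorem ind_supp {g : ℕ} (hg : rho g = g) (he : parE6.eps g = 1) {c : K} (hc : C.f c = c) :
    ∀ k, ind g c k ≠ 0 → rho k = k ∧ parE6.eps k = 1 ∧ C.f (ind g c k) = ind g c k := by
  intro k hk
  unfold ind at hk ⊢
  by_cases h : k = g
  · subst h; rw [if_pos rfl]; exact ⟨hg, he, hc⟩
  · exact absurd (if_neg h) hk

theorem shL_stay {g δ : ℕ} {R : List ℕ} (h : stayB g R δ = true) {a : ℕ → K}
    (ha : ∀ k ∈ R, k ≠ g → a k = 0) (t : K) : ∀ r ∈ R, shL (orbW C δ t) a r = a r := by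
  simp only [stayB, List.all_eq_true] at h
  suffices key : ∀ ds : List (ℕ × K), (∀ p ∈ ds, p.1 ∈ orb δ) → ∀ b : ℕ → K,
      (∀ r ∈ R, b r = a r) → ∀ r ∈ R, shL ds b r = a r from
    key _ (orbW_mem C δ t) a fun _ _ => rfl
  intro ds
  induction ds with
  | nil => exact fun _ b hb r hr => hb r hr
  | cons p ds ih =>
    intro hds b hb r hr
    refine ih (fun x hx => hds x (List.mem_cons_of_mem _ hx)) (sh p.1 p.2 b) (fun k hk => ?_) r hr
    have hk' := h k hk p.1 (hds p List.mem_cons_self)
    unfold sh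
    rcases hT : tb.tg p.1 k with _ | j <;> rw [hT] at hk'
    · exact hb k hk
    · simp only [Bool.and_eq_true, List.contains_iff_mem, Bool.not_eq_true', beq_eq_false_iff_ne] at hk'
      show b k + _ = _
      rw [hb k hk, hb j hk'.1, ha j hk'.1 hk'.2, mul_zero, add_zero]

variable {V : Type*} [AddCommGroup V] [Module ℂ V] (π : Representation ℂ ↥(twistedE6 K q) V)

theorem Eigen.congr' {S : List ℕ} {a b : ℕ → K} {v : V} (hv : Eigen C π S a v)
    (h : ∀ k ∈ S.flatMap orb, a k = b k) : Eigen C π S b v := fun r hr hval t ht => by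
  rw [hv r hr hval t ht, lam_congr C (fun k hk => h k (List.mem_flatMap.2 ⟨r, hr, hk⟩)) t]

theorem Eigen.sub {S S' : List ℕ} {a : ℕ → K} {v : V} (hv : Eigen C π S a v)
    (h : ∀ r ∈ S', r ∈ S) : Eigen C π S' a v := fun r hr => hv r (h r hr)

/-- Every character of the element group of a root. -/
theorem exists_par_coef {δ : ℕ} (hv : validB δ = true) (hfix : rho δ = δ) (he : parE6.eps δ = 1)
    (μ : AddChar (par C δ) ℂ) :
    ∃ l : K, C.f l = l ∧ ∀ t : par C δ, μ t = Psi K (l * (t : K)) := by
  classical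
  letI : Fintype (par C δ) := Fintype.ofFinite _
  let Φ : par C δ → AddChar (par C δ) ℂ := fun l =>
    (AddChar.mulShift (Psi K) (l : K)).compAddMonoidHom (par C δ).subtype
  have hval : ∀ l t, Φ l t = Psi K ((l : K) * (t : K)) := fun l t => rfl
  have hf : ∀ l : par C δ, C.f (l : K) = l := fun l => by
    have := l.2 hfix; rwa [he, Int.cast_one, one_mul] at this
  have hi : Function.Injective Φ := fun l l' h => by
    by_contra hne
    obtain ⟨t, ht, hp⟩ := psi_nondeg C (a := ind δ ((l : K) - l')) hv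
      (inv_supp C (ind_supp C hfix he (by rw [map_sub, hf, hf])) hv)
      (by simpa [ind, sub_eq_zero] using fun e => hne (Subtype.ext e))
    refine hp ?_
    rw [orbW, if_pos hfix, show lam (ind δ ((l : K) - l')) [(δ, t)] = (l : K) * t + -((l' : K) * t) by
      simp [lam, ind]; ring, AddChar.map_add_eq_mul, ← hval l ⟨t, ht⟩, h, hval, ← AddChar.map_add_eq_mul,
      add_neg_cancel, AddChar.map_zero_eq_one]
  obtain ⟨l, rfl⟩ := ((Fintype.bijective_iff_injective_and_card Φ).2
    ⟨hi, (AddChar.card_eq (α := par C δ)).symm⟩).2 μ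
  exact ⟨l, hf l, hval l⟩

variable {H : HData} (hH : HFacts H) [FiniteDimensional ℂ V]
  (h1 : ∀ θ : FA C H, ext θ.1 H.a ≠ 0 → mA C π θ = 1)
include hH h1

/-- Two eigenvectors of the abelian subgroup with the same functional are proportional. -/
theorem same_line {a : ℕ → K}
    (ha : ∀ k, a k ≠ 0 → rho k = k ∧ parE6.eps k = 1 ∧ C.f (a k) = a k) (hne : a H.a ≠ 0)
    {v w : V} (hv : v ≠ 0) (h : Eigen C π H.cls a v) (h' : Eigen C π H.cls a w) :
    ∃ c : ℂ, w = c • v := by
  classical
  have hext : ∀ k ∈ H.ab, ext (fun k : AIdx H => a k.1) k = a k := fun k hk => by rw [ext, dif_pos hk]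
  let θ : FA C H := ⟨fun k => a k.1, fun r hr => by
    show ext _ (rho r) = _
    rw [hext _ (mem_ab hr).2, hext _ (mem_ab hr).1]
    exact inv_supp C ha (cls_val hH r hr)⟩
  have hm : mA C π θ = 1 := h1 θ (by rwa [hext _ (a_mem_ab C hH)])
  have key : ∀ {u : V}, Eigen C π H.cls a u → proj (opA C π) (chr C θ) u = u := by
    intro u hu
    have hf : ∀ f : FA C H, opA C π f u = chr C θ f • u := fun f => by
      rw [opA, regroup C π hu hH.cls (fun _ h => h) (w := wordL H.ab (ext f.1))
        (fun p hp => by obtain ⟨k, hk, rfl⟩ := List.mem_map.1 hp; exact hk) (el_val C hH f)]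
      show _ = Psi K (lam (ext θ.1) (wordL H.ab (ext f.1))) • u
      congr 2
      simp only [lam, wordL, List.map_map]
      exact congrArg List.sum (List.map_congr_left fun k hk => by
        simp only [Function.comp_apply]; rw [hext k hk])
    simp only [proj, LinearMap.smul_apply, LinearMap.sum_apply, hf, smul_smul]
    have e : ∀ f, chr C θ (-f) * chr C θ f = 1 := fun f => by
      rw [← AddChar.map_add_eq_mul, neg_add_cancel, AddChar.map_zero_eq_one]
    simp only [e, one_smul, Finset.sum_const, Finset.card_univ, ← Nat.cast_smul_eq_nsmul ℂ, smul_smul]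
    rw [inv_mul_cancel₀ (by simp [Fintype.card_ne_zero]), one_smul]
  obtain ⟨c, hc⟩ := (finrank_eq_one_iff_of_nonzero'
    (⟨v, ⟨v, key h⟩⟩ : LinearMap.range (proj (opA C π) (chr C θ)))
    (fun e => hv (congrArg Subtype.val e))).1 hm ⟨w, ⟨w, key h'⟩⟩
  exact ⟨c, (congrArg Subtype.val hc).symm⟩

/-- A stabilising class acts on the line by scalars. -/
theorem scalar_cls {a : ℕ → K}
    (ha : ∀ k, a k ≠ 0 → rho k = k ∧ parE6.eps k = 1 ∧ C.f (a k) = a k) (hne : a H.a ≠ 0)
    {v : V} (hv : v ≠ 0) {S : List ℕ} (hS : ∀ r ∈ H.cls, r ∈ S) (h : Eigen C π S a v)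
    (ha0 : ∀ k ∈ S.flatMap orb, k ≠ H.a → a k = 0) {δ : ℕ} (hst : stepB S δ = true)
    (hstay : stayB H.a (S.flatMap orb) δ = true) {t : K} (ht : t ∈ par C δ) :
    ∃ μ : ℂ, π (eltG C δ t) v = μ • v := by
  have hδ : validB δ = true := by
    simp only [stepB, Bool.and_eq_true] at hst; exact hst.1
  have h' := (Eigen.step C π h hst (neg_mem ht)).congr' C π (shL_stay C hstay ha0 (-t))
  rw [eltG_neg C hδ ht] at h'
  exact same_line C π hH h1 ha hne hv (h.sub C π hS) (h'.sub C π hS)

omit hH h1 in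
/-- Scalars on a line commute. -/
theorem scalar_conj {v : V} (hv : v ≠ 0) {g g' : ↥(twistedE6 K q)} {μ μ' : ℂ}
    (h : π g v = μ • v) (h' : π g' v = μ' • v) : π (g * g' * g⁻¹) v = μ' • v := by
  have hμ : μ ≠ 0 := fun e => pi_ne_zero C π g hv (by rw [h, e, zero_smul])
  have hinv : π g⁻¹ v = μ⁻¹ • v := by
    have := congrArg (π g⁻¹) h
    rw [← Module.End.mul_apply, ← map_mul, inv_mul_cancel, map_one, Module.End.one_apply, map_smul] at this
    rw [eq_inv_smul_iff₀ hμ, ← this]
  rw [map_mul, map_mul, Module.End.mul_apply, Module.End.mul_apply, hinv, map_smul, h', map_smul,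
    map_smul, h, smul_smul, smul_smul]
  congr 1
  field_simp

omit hH h1 in
/-- A class reached by a commutator of two scalar classes fixes the line. -/
theorem killed_cls {v : V} (hv : v ≠ 0) {r x y : ℕ} (hk : kB r x y = true)
    (hx : ∀ t ∈ par C x, ∃ μ : ℂ, π (eltG C x t) v = μ • v)
    (hy : ∀ t ∈ par C y, ∃ μ : ℂ, π (eltG C y t) v = μ • v) {t : K} (ht : t ∈ par C r) :
    π (eltG C r t) v = v := by
  simp only [kB, Bool.and_eq_true, Bool.not_eq_true', beq_eq_false_iff_ne, Bool.or_eq_true,
    beq_iff_eq] at hk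
  obtain ⟨⟨⟨⟨⟨⟨⟨⟨⟨⟨hrv, hxv⟩, hyv⟩, hyne⟩, hxe⟩, hre⟩, hok⟩, hcl⟩, hcy⟩, hcy'⟩, hc1, hc2⟩ := hk
  have hx1 : (1 : K) ∈ par C x := par_one C fun e => by
    rcases hxe with h | h
    · exact absurd e h
    · exact h
  set c1 := shZL (oneW x) (ind r 1) y with hc1d
  set c2 := shZL (oneW x) (ind r 1) (rho y) with hc2d
  have hcsq : (c1 : K) * (c1 : K) = 1 := by rcases hc1 with h | h <;> simp [h]
  obtain ⟨s, hs⟩ : ∃ s : K, (c1 : K) * s + (c2 : K) * ((parE6.eps y : K) * C.f s) = t := by
    by_cases hr : rho r = r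
    · rw [if_pos hr] at hc2
      simp only [beq_iff_eq] at hc2
      obtain ⟨x₀, hx₀⟩ := exists_tr_one C
      have hft : C.f t = t := by
        have := ht hr
        rcases hre with h | h
        · exact absurd hr h
        · rwa [h, Int.cast_one, one_mul] at this
      refine ⟨(c1 : K) * t * x₀, ?_⟩
      rw [← mul_assoc (c2 : K), ← Int.cast_mul, hc2, map_mul, map_mul, map_intCast, hft]
      linear_combination (t * (x₀ + C.f x₀)) * hcsq + t * hx₀
    · rw [if_neg hr] at hc2
      simp only [beq_iff_eq] at hc2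
      refine ⟨(c1 : K) * t, ?_⟩
      rw [hc2, Int.cast_zero, zero_mul, add_zero, ← mul_assoc, hcsq, one_mul]
  have hsy : s ∈ par C y := fun e => absurd e hyne
  obtain ⟨h1', -, h3', h4'⟩ := conj_word C hxv hok (1 : K) s
  set g := eltG C x 1 * eltG C y s * (eltG C x 1)⁻¹ with hg
  have hgv : (g : GL chevE6.Idx K) = wU chevE6 (convL (orbW C x 1) (orbW C y s)) := by
    rw [hg, Subgroup.coe_mul, Subgroup.coe_mul, Subgroup.coe_inv, eltG_val C hxv hx1, eltG_val C hyv hsy, h4']
  have hmem : ∀ p ∈ convL (orbW C x 1) (orbW C y s), p.1 ∈ [y, r].flatMap orb := fun p hp => by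
    obtain ⟨c, hc, hpc⟩ := List.mem_flatMap.1 (h3' p hp)
    refine List.mem_flatMap.2 ⟨c, ?_, hpc⟩
    simp only [convOK, Bool.and_eq_true, List.all_eq_true, List.contains_iff_mem] at hok
    exact hok.1.1.2 c hc
  obtain ⟨f, hf, hgf, hlam⟩ := fixed_word C hcl hmem hgv
  have hnd : ([y, r].flatMap orb).Nodup := by
    simp only [clsList, Bool.and_eq_true] at hcl
    exact (commList_spec hcl.2).2.1
  rw [List.flatMap_cons, List.flatMap_cons, List.flatMap_nil, List.append_nil] at hnd
  obtain ⟨hndy, hndr, hdis⟩ := List.nodup_append.1 hnd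
  have hval : ∀ k : ℕ, lam (ind k 1) (convL (orbW C x 1) (orbW C y s)) =
      (shZL (oneW x) (ind k 1) y : K) * s +
        (shZL (oneW x) (ind k 1) (rho y) : K) * ((parE6.eps y : K) * C.f s) := fun k => by
    rw [lam_convL, show orbW C y s = [(y, s), (rho y, (parE6.eps y : K) * C.f s)] from if_neg hyne,
      ← oneW_cast C, ind_cast]
    simp [lam, shL_cast]
  have hpick : ∀ (k c : ℕ) (u : K), lam (ind k (1 : K)) (orbW C c u) =
      if k = c then u else if k = rho c then (parE6.eps c : K) * C.f u else 0 := fun k c u => by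
    unfold orbW
    by_cases hc : rho c = c
    · rw [if_pos hc, hc]; by_cases hk : k = c <;> simp [lam, ind, hk, Ne.symm]
    · rw [if_neg hc]
      by_cases hk : k = c
      · subst hk; simp [lam, ind, hc]
      · by_cases hk' : k = rho c
        · subst hk'; simp [lam, ind, hc, Ne.symm hc]
        · simp [lam, ind, hk, hk', Ne.symm hk, Ne.symm hk']
  have hry : r ≠ y ∧ r ≠ rho y ∧ y ≠ rho r :=
    ⟨fun e => hdis y (mem_orb_self y).1 r (mem_orb_self r).1 e.symm,
      fun e => hdis _ (mem_orb_self y).2 r (mem_orb_self r).1 e.symm,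
      fun e => hdis y (mem_orb_self y).1 _ (mem_orb_self r).2 e⟩
  have hfy : f y = s := by
    have := hlam (ind y 1)
    simp only [List.map_cons, List.map_nil, List.sum_cons, List.sum_nil, add_zero, hpick, if_pos,
      if_neg (Ne.symm hry.1), if_neg hry.2.2] at this
    rw [hval, hcy, hcy', Int.cast_one, Int.cast_zero, zero_mul, add_zero, one_mul] at this
    exact this.symm
  have hfr : f r = t := by
    have := hlam (ind r 1)
    simp only [List.map_cons, List.map_nil, List.sum_cons, List.sum_nil, add_zero, hpick, if_pos,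
      if_neg hry.1, if_neg hry.2.1, zero_add] at this
    rw [hval, hs] at this
    exact this.symm
  obtain ⟨μ, hμ⟩ := hx 1 hx1
  obtain ⟨μy, hμy⟩ := hy s hsy
  have e := scalar_conj C π hv hμ hμy
  rw [← hg, hgf, clsEl] at e
  simp only [List.map_cons, List.map_nil, List.prod_cons, List.prod_nil, mul_one, hfy, hfr, map_mul,
    Module.End.mul_apply] at e
  have e2 := congrArg (π (eltG C y s)⁻¹) e
  rw [← Module.End.mul_apply, ← map_mul, inv_mul_cancel, map_one, Module.End.one_apply, map_smul] at e2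
  have hinv := congrArg (π (eltG C y s)⁻¹) hμy
  rw [← Module.End.mul_apply, ← map_mul, inv_mul_cancel, map_one, Module.End.one_apply, map_smul] at hinv
  rw [e2, ← hinv]

end CfsgLib.Known.TwLieDegree
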