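/-
A vector fixed by all positive root classes of ²E₆ except the simple one outside the long root parabolic.
-/
import Mathlib
import Cfsg.Agent.Lib.Known.TwLieDegree.Scalar

set_option autoImplicit false
set_option maxRecDepth 20000
set_option maxHeartbeats 1000000
set_option linter.unusedSectionVars false

namespace CfsgLib.Known.TwLieDegree

open Cfsg.Lie CfsgLib.Chev CfsgLib.Chev.Table CfsgLib.Known.RootLift.E6 CfsgLib.Known.D4Degree

universe v

/-- The long root parabolic. -/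
def hdata : HData where
  z := 71
  a := 46
  half := [46, 47, 48, 49, 51, 52, 63]
  other := [(70, 46), (69, 47), (68, 48), (67, 49), (65, 51), (64, 52), (53, 63)]
  word := [⟨1, by decide⟩, ⟨2, by decide⟩, ⟨1, by decide⟩, ⟨0, by decide⟩, ⟨3, by decide⟩, ⟨2, by decide⟩,
    ⟨1, by decide⟩, ⟨2, by decide⟩, ⟨3, by decide⟩, ⟨0, by decide⟩, ⟨1, by decide⟩, ⟨2, by decide⟩, ⟨1, by decide⟩]

theorem hdata_chk : hdata.checkB = true := by decide +kernel

theorem hfacts : HFacts hdata := hfacts_of_check hdata_chk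

/-- The classes of the radical. -/
def qC : List ℕ := hdata.cls ++ [53, 54, 55, 65, 66, 69, 70]

/-- The classes on which the two moved lines are compared. -/
def cmpC : List ℕ := 69 :: hdata.cls

/-- The classes killed on the line over the abelian subgroup. -/
def kills1 : List (ℕ × ℕ × ℕ) :=
  [(53, 14, 55), (54, 29, 55), (55, 15, 66), (65, 29, 66), (66, 36, 55), (69, 37, 66)]

/-- The classes killed on the line over the radical. -/
def kills2 : List (ℕ × ℕ × ℕ) :=
  [(36, 29, 38), (37, 15, 38), (38, 36, 37), (39, 14, 41), (40, 15, 41), (41, 29, 45), (44, 15, 45),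
    (45, 37, 41), (60, 36, 45)]

/-- The orbit reflection of the fourth node. -/
def w4 : List (Fin TwE6.spec.length) := [⟨1, by decide⟩]

theorem kills_chk :
    (∀ p ∈ kills1, kB p.1 p.2.1 p.2.2 = true ∧ stepB hdata.cls p.2.1 = true ∧
      stayB hdata.a hdata.ab p.2.1 = true ∧ stepB hdata.cls p.2.2 = true ∧
      stayB hdata.a hdata.ab p.2.2 = true) ∧
    ∀ p ∈ kills2, kB p.1 p.2.1 p.2.2 = true ∧ stepB qC p.2.1 = true ∧
      stayB hdata.a (qC.flatMap orb) p.2.1 = true ∧ stepB qC p.2.2 = true ∧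
      stayB hdata.a (qC.flatMap orb) p.2.2 = true := by
  decide +kernel

theorem line_chk :
    stepB hdata.cls 70 = true ∧ stayB hdata.a hdata.ab 70 = true ∧ monoB qC qC (oImg w4) = true ∧
    validB 39 = true ∧ validB 32 = true ∧ rho 39 = 39 ∧ rho 32 = 32 ∧ parE6.eps 39 = 1 ∧
    parE6.eps 32 = 1 ∧ oImg w4 47 = 46 ∧ oImg w4 69 = 70 ∧ tb.tg 39 46 = some 47 ∧
    tb.tg 32 47 = some 46 ∧ (tb.nn 39 46 = 1 ∨ tb.nn 39 46 = -1) ∧
    (tb.nn 32 47 = 1 ∨ tb.nn 32 47 = -1) ∧
    (step2B qC cmpC [71] 39 = true ∧ oImg w4 71 ≠ 46 ∧ oImg w4 71 ≠ 70) ∧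
    (∀ r ∈ cmpC, validB r = true ∧ convOK qC 32 r = true) ∧
    (∀ r ∈ cmpC.flatMap orb, r = 47 ∨ r = 69 ∨ (oImg w4 r ≠ 46 ∧ oImg w4 r ≠ 70)) ∧
    (∀ r ∈ cmpC.flatMap orb, r = 46 ∨ tb.tg 39 r = none ∨
      ((tb.tg 39 r).any fun k => !(oImg w4 k == 46) && !(oImg w4 k == 70)) = true) ∧
    (∀ r ∈ cmpC.flatMap orb, r = 47 ∨ tb.tg 32 r = none ∨
      ((tb.tg 32 r).any fun k => !(k == 46) && !(k == 70)) = true) ∧
    (∀ r ∈ [46, 47, 69, 70], validB r = true ∧ rho r = r ∧ parE6.eps r = 1 ∧ clsList [r] = true) := by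
  decide +kernel

theorem cover_chk :
    (∀ r ∈ qC, r ∈ hdata.cls ∨ r = 70 ∨ r ∈ kills1.map Prod.fst) ∧
    (∀ r ∈ posC, r ∈ qC ∨ r ∈ kills2.map Prod.fst) ∧
    (∀ r ∈ qC, validB r = true) ∧
    (∀ r ∈ kills1.map Prod.fst ++ kills2.map Prod.fst, ∀ k ∈ orb r, k ≠ 46 ∧ k ≠ 70) ∧
    (∀ k ∈ orb 70, k = 70) ∧ (∀ r ∈ hdata.cls, ∀ k ∈ orb r, k ≠ 70) := by
  decide +kernel

variable {K : Type v} [Field K] [Fintype K] {q : ℕ} (C : TwE6.Ctx K q)
include C

/-- A fixed root moved to a fixed root has a fixed factor. -/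
theorem coef_fixed {r k : ℕ} (hr : validB r = true) (hrf : rho r = r) (hre : parE6.eps r = 1)
    (hcl : clsList [k] = true) (hkf : rho k = k) (hke : parE6.eps k = 1) {n : ↥(twistedE6 K q)} {e : K}
    (h : ∀ c : K, (n : GL chevE6.Idx K) * xU chevE6 r c * (n : GL chevE6.Idx K)⁻¹ =
      xU chevE6 k (e * c)) : C.f e = e := by
  have h1 : (1 : K) ∈ par C r := par_one C fun _ => hre
  have := fixed_coords C hcl (f := fun _ => e) (by
    rw [show [k].flatMap orb = [k] by simp [show orb k = [k] from if_pos hkf]]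
    have hmem := (n * eltG C r 1 * n⁻¹).2
    rw [Subgroup.coe_mul, Subgroup.coe_mul, Subgroup.coe_inv, eltG_val C hr h1, elt,
      if_pos (show parE6.rho r = r from hrf), h, mul_one] at hmem
    simpa [wordL, wU] using hmem) k (by simp)
  rw [Inv, hke, Int.cast_one, one_mul] at this
  exact this.symm

variable {V : Type*} [AddCommGroup V] [Module ℂ V] (π : Representation ℂ ↥(twistedE6 K q) V)

/-- Every character of a fixed root occurs on a vector fixed by the other positive classes. -/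
def LineAt (g : ℕ) : Prop :=
  ∀ c : K, C.f c = c → c ≠ 0 → ∃ v : V, v ≠ 0 ∧ Eigen C π posC (ind g c) v

variable [FiniteDimensional ℂ V] (h1 : ∀ θ : FA C hdata, ext θ.1 hdata.a ≠ 0 → mA C π θ = 1)
include h1

/-- The line over the radical. -/
theorem exists_radical {c : K} (hc : C.f c = c) (hc0 : c ≠ 0) :
    ∃ (v : V) (l : K), v ≠ 0 ∧ C.f l = l ∧
      Eigen C π qC (fun k => if k = 46 then c else if k = 70 then l else 0) v := by
  classical
  obtain ⟨hk1, -⟩ := kills_chk
  obtain ⟨hst, hstay, -, -, -, -, -, -, -, -, -, -, -, -, -, -, -, -, -, -, hfour⟩ := line_chk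
  obtain ⟨hQ, -, hQv, hkne, -, hcls70⟩ := cover_chk
  have hH := hfacts
  have hsupp := ind_supp C (g := 46) hH.a_fix hH.a_eps hc
  have hext : ∀ k ∈ hdata.ab, ext (fun k : AIdx hdata => ind 46 c k.1) k = ind 46 c k :=
    fun k hk => by rw [ext, dif_pos hk]
  let θ : FA C hdata := ⟨fun k => ind 46 c k.1, fun r hr => by
    show ext _ (rho r) = _
    rw [hext _ (mem_ab hr).2, hext _ (mem_ab hr).1]
    exact inv_supp C hsupp (cls_val hH r hr)⟩
  have hm : mA C π θ = 1 := h1 θ (by rw [hext _ (a_mem_ab C hH)]; simpa [ind, hdata] using hc0)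
  obtain ⟨x, hx⟩ : ∃ x, proj (opA C π) (chr C θ) x ≠ 0 := by
    by_contra! h
    rw [mA, mult, show proj (opA C π) (chr C θ) = 0 from LinearMap.ext h, LinearMap.range_zero,
      finrank_bot] at hm
    exact zero_ne_one hm
  set v := proj (opA C π) (chr C θ) x with hv
  have hev : Eigen C π hdata.cls (ind 46 c) v := fun r hr hval t ht => by
    obtain ⟨f, hf, hl⟩ := exists_single C hH hr ht
    rw [show π (eltG C r t) = opA C π f by rw [opA, hf], hv, ← Module.End.mul_apply,
      mul_proj (opA_add C hH π), LinearMap.smul_apply]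
    congr 1
    show Psi K (lam (ext θ.1) (wordL hdata.ab (ext f.1))) = _
    rw [hl, lam_congr C fun k hk => hext k (List.mem_flatMap.2 ⟨r, hr, hk⟩)]
  have ha0 : ∀ k ∈ hdata.cls.flatMap orb, k ≠ hdata.a → ind 46 c k = 0 := fun k _ hk => if_neg hk
  have hne : ind 46 c hdata.a ≠ 0 := by simpa [ind, hdata] using hc0
  have hsc : ∀ δ, stepB hdata.cls δ = true → stayB hdata.a hdata.ab δ = true →
      ∀ t ∈ par C δ, ∃ μ : ℂ, π (eltG C δ t) v = μ • v := fun δ h h' t ht =>
    scalar_cls C π hH h1 hsupp hne hx (fun _ h => h) hev ha0 h h' ht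
  obtain ⟨h70, h70f, h70e, -⟩ := hfour 70 (by simp)
  have hmu := hsc 70 hst hstay
  choose μ hμ using hmu
  have hμ' : ∀ s t : par C 70, μ _ (s + t).2 = μ _ s.2 * μ _ t.2 := fun s t => by
    refine smul_left_injective ℂ hx ?_
    show μ _ (s + t).2 • v = (μ _ s.2 * μ _ t.2) • v
    rw [← hμ, AddSubgroup.coe_add, eltG_add C h70 s.2 t.2, map_mul, Module.End.mul_apply, hμ, map_smul,
      hμ, smul_smul, mul_comm]
  obtain ⟨l, hl, hμl⟩ := exists_par_coef C h70 h70f h70e
    { toFun := fun t : par C 70 => μ _ t.2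
      map_zero_eq_one' := smul_left_injective ℂ hx (by
        show μ _ (0 : par C 70).2 • v = (1 : ℂ) • v
        rw [← hμ, AddSubgroup.coe_zero, eltG_zero C h70, map_one, Module.End.one_apply, one_smul])
      map_add_eq_mul' := hμ' }
  refine ⟨v, l, hx, hl, fun r hr hval t ht => ?_⟩
  rcases hQ r hr with h | rfl | h
  · rw [hev r h hval t ht, lam_congr C fun k hk => ?_]
    by_cases hk46 : k = 46
    · simp [ind, hk46]
    · simp [ind, hk46, hcls70 r h k hk]
  · rw [hμ t ht, orbW, if_pos h70f]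
    congr 1
    refine (hμl ⟨t, ht⟩).trans ?_
    simp [lam]
  · obtain ⟨p, hp, rfl⟩ := List.mem_map.1 h
    obtain ⟨hk, hs1, hy1, hs2, hy2⟩ := hk1 p hp
    rw [killed_cls C π hx hk (hsc _ hs1 hy1) (hsc _ hs2 hy2) ht,
      lam_congr C (b := fun _ => 0) fun k hk => ?_, lam_zero C, AddChar.map_zero_eq_one, one_smul]
    obtain ⟨e1, e2⟩ := hkne p.1 (List.mem_append_left _ (List.mem_map.2 ⟨p, hp, rfl⟩)) k hk
    simp [e1, e2]

/-- The vector fixed by all positive classes but the simple one. -/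
theorem lineAt_a : LineAt C π 46 := by
  classical
  obtain ⟨-, hk2⟩ := kills_chk
  obtain ⟨-, hcov, -, hkne, -, -⟩ := cover_chk
  obtain ⟨-, -, hmono, h39, h32, hf39, hf32, he39, he32, ho47, ho69, ht39, ht32, hn39, hn32, hc39, hc32,
    hw3, hw2, hw1, hfour⟩ := line_chk
  have hH := hfacts
  choose vv ll hvv hll hQ using fun (c : K) (h : C.f c = c) (h' : c ≠ 0) => exists_radical C π h1 h h'
  suffices hl0 : ∀ (c : K) (h : C.f c = c) (h' : c ≠ 0), ll c h h' = 0 by
    intro c hc hc0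
    have hv := hvv c hc hc0
    have hsupp := ind_supp C (g := 46) hH.a_fix hH.a_eps hc
    have hQ' : Eigen C π qC (ind 46 c) (vv c hc hc0) := (hQ c hc hc0).congr' C π fun k _ => by
      rw [hl0]; unfold ind; split <;> simp
    refine ⟨_, hv, fun r hr hval t ht => ?_⟩
    rcases hcov r hr with h | h
    · exact hQ' r h hval t ht
    obtain ⟨p, hp, rfl⟩ := List.mem_map.1 h
    obtain ⟨hk, hs1, hy1, hs2, hy2⟩ := hk2 p hp
    have hsc : ∀ δ, stepB qC δ = true → stayB hdata.a (qC.flatMap orb) δ = true →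
        ∀ t ∈ par C δ, ∃ μ : ℂ, π (eltG C δ t) (vv c hc hc0) = μ • vv c hc hc0 := fun δ h h' t ht =>
      scalar_cls C π hH h1 hsupp (by simpa [ind, hdata] using hc0) hv
        (fun r hr => List.mem_append_left _ hr) hQ' (fun k _ hk => if_neg hk) h h' ht
    rw [killed_cls C π hv hk (hsc _ hs1 hy1) (hsc _ hs2 hy2) ht,
      lam_congr C (b := fun _ => 0) fun k hk => ?_, lam_zero C, AddChar.map_zero_eq_one, one_smul]
    exact if_neg (hkne p.1 (List.mem_append_right _ (List.mem_map.2 ⟨p, hp, rfl⟩)) k hk).1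
  intro c hc hc0
  set l := ll c hc hc0 with hl
  obtain ⟨n, e, hn⟩ := exists_word C w4
  set a3 : ℕ → K := fun r =>
    (if oImg w4 r = 46 then c else if oImg w4 r = 70 then l else 0) * e r with ha3
  have h3 : Eigen C π qC a3 (π n⁻¹ (vv c hc hc0)) :=
    Eigen.mono C π (hQ c hc hc0) n (oImg w4) e hmono fun r hr => (hn r hr).2.2
  obtain ⟨v46, f46, e46, c46⟩ := hfour 46 (by simp)
  obtain ⟨v47, f47, e47, -⟩ := hfour 47 (by simp)
  obtain ⟨v69, f69, e69, -⟩ := hfour 69 (by simp)
  obtain ⟨-, f70, e70, c70⟩ := hfour 70 (by simp)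
  obtain ⟨-, hne47, hcj47⟩ := hn 47 (by norm_num)
  obtain ⟨-, hne69, hcj69⟩ := hn 69 (by norm_num)
  rw [ho47] at hcj47
  rw [ho69] at hcj69
  have hfe47 : C.f (e 47) = e 47 := coef_fixed C v47 f47 e47 c46 f46 e46 hcj47
  have hfe69 : C.f (e 69) = e 69 := coef_fixed C v69 f69 e69 c70 f70 e70 hcj69
  set c3 := c * e 47 with hc3
  have hfc3 : C.f c3 = c3 := by rw [hc3, map_mul, hc, hfe47]
  have hc30 : c3 ≠ 0 := mul_ne_zero hc0 hne47
  set c' : K := (tb.nn 39 46 : K) * c3 with hc'
  have hnsq : (tb.nn 39 46 : K) * (tb.nn 39 46 : K) = 1 := by rcases hn39 with h | h <;> simp [h]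
  have hnsq' : (tb.nn 32 47 : K) * (tb.nn 32 47 : K) = 1 := by rcases hn32 with h | h <;> simp [h]
  have hfc' : C.f c' = c' := by rw [hc', map_mul, map_intCast, hfc3]
  have hc'0 : c' ≠ 0 := mul_ne_zero (left_ne_zero_of_mul_eq_one hnsq) hc30
  set b : ℕ → K := fun r => if r = 46 then c' else if r = 47 then c3 else if r = 69 then l * e 69 else 0
    with hb
  have hp39 : (1 : K) ∈ par C 39 := par_one C fun _ => he39
  -- the first line
  have h2 : Eigen C π cmpC b (π (eltG C 39 1)⁻¹ (π n⁻¹ (vv c hc hc0))) := by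
    have hz : ∀ r ∈ cmpC.flatMap orb, r ≠ 47 → r ≠ 69 → a3 r = 0 := fun r hr h47 h69 => by
      obtain ⟨x1, x2⟩ := ((hw3 r hr).resolve_left h47).resolve_left h69
      simp [ha3, x1, x2]
    have hv47 : a3 47 = c3 := by simp [ha3, ho47, hc3]
    have hv69 : a3 69 = l * e 69 := by simp [ha3, ho69]
    have hb2 : ∀ r ∈ cmpC.flatMap orb, shL (orbW C 39 1) a3 r = b r := fun r hr => by
      rw [orbW, if_pos hf39, show shL [((39 : ℕ), (1 : K))] a3 r = sh 39 1 a3 r from rfl]
      by_cases h46 : r = 46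
      · subst h46
        rw [sh, ht39]
        show a3 46 + _ = _
        rw [hz 46 hr (by norm_num) (by norm_num), hv47, zero_add, mul_one]
        simp [hb, hc']
      have hsame : sh 39 1 a3 r = a3 r := by
        rcases (hw2 r hr).resolve_left h46 with h | h
        · rw [sh, h]
        · rcases hk : tb.tg 39 r with _ | k <;> rw [hk] at h
          · rw [sh, hk]
          · simp only [Option.any_some, Bool.and_eq_true, Bool.not_eq_true', beq_eq_false_iff_ne] at h
            rw [sh, hk]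
            show a3 r + _ = _
            simp [ha3, h.1, h.2]
      rw [hsame]
      by_cases h47 : r = 47
      · subst h47; rw [hv47]; simp [hb]
      by_cases h69 : r = 69
      · subst h69; rw [hv69]; simp [hb]
      rw [hz r hr h47 h69]; simp [hb, h46, h47, h69]
    exact (Eigen.step2 C π h3 hc39.1 (fun z hz => by
      obtain rfl := List.mem_singleton.1 hz
      simp [ha3, hc39.2.1, hc39.2.2]) hp39).congr' C π hb2
  -- the second line
  set u : K := (tb.nn 32 47 : K) * (tb.nn 39 46 : K) with hu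
  have hup : u ∈ par C 32 := fun _ => by
    rw [he32, Int.cast_one, one_mul, hu, map_mul, map_intCast, map_intCast]
  set w1 := π (eltG C 32 u)⁻¹ (vv c' hfc' hc'0) with hw1d
  set b1 : ℕ → K := fun r => if r = 46 then c' else if r = 47 then c3 else 0 with hb1
  have h1' : Eigen C π cmpC b1 w1 := by
    refine Eigen.moveP C π (eltG C 32 u) fun r hr hval t ht => ?_
    obtain ⟨hrv, hok⟩ := hc32 r hr
    rw [(hQ c' hfc' hc'0).conj C π h32 hrv hok hup ht, lam_congr C fun k hk => ?_]
    have hk' : k ∈ cmpC.flatMap orb := List.mem_flatMap.2 ⟨r, hr, hk⟩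
    rw [orbW, if_pos hf32]
    generalize ll c' hfc' hc'0 = l'
    simp only [shL, List.foldl_cons, List.foldl_nil]
    by_cases h47 : k = 47
    · subst h47
      rw [sh, ht32]
      simp only [hb1, hu, hc']
      norm_num
      linear_combination (c3 * ((tb.nn 39 46 : K) * (tb.nn 39 46 : K))) * hnsq' + c3 * hnsq
    have hsame : ∀ a : ℕ → K, a = (fun j => if j = 46 then c' else if j = 70 then l' else 0) →
        sh 32 u a k = a k := fun a e => by
      rcases (hw1 k hk').resolve_left h47 with h | h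
      · rw [sh, h]
      · rcases hk2 : tb.tg 32 k with _ | j <;> rw [hk2] at h
        · rw [sh, hk2]
        · simp only [Option.any_some, Bool.and_eq_true, Bool.not_eq_true', beq_eq_false_iff_ne] at h
          rw [sh, hk2]
          show a k + _ = _
          rw [e]; simp [h.1, h.2]
    rw [hsame _ rfl]
    have h70 : k ≠ 70 := fun e' => by
      have : ∀ r ∈ cmpC.flatMap orb, r ≠ 70 := by decide +kernel
      exact this k hk' e'
    simp [hb1, h47, h70]
  have hsupp1 : ∀ k, b1 k ≠ 0 → rho k = k ∧ parE6.eps k = 1 ∧ C.f (b1 k) = b1 k := by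
    intro k hk
    by_cases h46 : k = 46
    · subst h46; simp [hb1, f46, e46, hfc']
    by_cases h47 : k = 47
    · subst h47; simp [hb1, f47, e47, hfc3]
    exact absurd (by simp [hb1, h46, h47]) hk
  have hab69 : ∀ r ∈ hdata.cls.flatMap orb, r ≠ 69 := by decide +kernel
  have hsub : ∀ r ∈ hdata.cls, r ∈ cmpC := fun r hr => List.mem_cons_of_mem _ hr
  obtain ⟨x, hx⟩ := same_line C π hH h1 hsupp1 (by simpa [hb1, hdata] using hc'0)
    (pi_ne_zero C π _ (hvv c' hfc' hc'0)) (h1'.sub C π hsub)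
    ((h2.sub C π hsub).congr' C π fun k hk => by simp [hb, hb1, hab69 k hk])
  by_contra hne
  have hle : ∀ k, ind 69 (l * e 69) k ≠ 0 →
      rho k = k ∧ parE6.eps k = 1 ∧ C.f (ind 69 (l * e 69) k) = ind 69 (l * e 69) k :=
    ind_supp C f69 e69 (by rw [map_mul, hfe69, hl, hll c hc hc0])
  obtain ⟨t, ht, hp⟩ := psi_nondeg C v69 (inv_supp C hle v69)
    (by simpa [ind] using mul_ne_zero hne hne69)
  have e1 := h2 69 List.mem_cons_self v69 t ht
  rw [hx, map_smul, h1' 69 List.mem_cons_self v69 t ht] at e1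
  have hz1 : lam b1 (orbW C 69 t) = 0 := by
    rw [orbW, if_pos f69]; simp [lam, hb1]
  have hz2 : lam b (orbW C 69 t) = lam (ind 69 (l * e 69)) (orbW C 69 t) := by
    rw [orbW, if_pos f69]; simp [lam, hb, ind]
  rw [hz1, hz2, AddChar.map_zero_eq_one, one_smul] at e1
  have e2 : (Psi K (lam (ind 69 (l * e 69)) (orbW C 69 t)) - 1) • (x • w1) = 0 := by
    rw [sub_smul, one_smul, ← e1, sub_self]
  refine hp (sub_eq_zero.1 ((smul_eq_zero.1 e2).resolve_right ?_))
  rw [← hx]
  exact pi_ne_zero C π _ (pi_ne_zero C π _ (hvv c hc hc0))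

end CfsgLib.Known.TwLieDegree
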