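/-
The propagation of the characters of the second simple root of ²E₆ to the fourth one.
-/
import Mathlib
import Cfsg.Agent.Lib.Known.TwLieDegree.LineA

set_option autoImplicit false
set_option maxRecDepth 20000
set_option maxHeartbeats 1000000
set_option linter.unusedSectionVars false

namespace CfsgLib.Known.TwLieDegree

open Cfsg.Lie CfsgLib.Chev CfsgLib.Chev.Table CfsgLib.Known.RootLift.E6 CfsgLib.Known.D4Degree

universe v

/-- The restriction of an element to an invariant subspace. -/
noncomputable def rsW {G : Type*} [Group G] {V : Type*} [AddCommGroup V] [Module ℂ V]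
    (π : Representation ℂ G V) (W : Submodule ℂ V) (g : G) : Module.End ℂ W :=
  open Classical in if h : ∀ w ∈ W, π g w ∈ W then (π g).restrict h else 0

section rs

variable {G : Type*} [Group G] {V : Type*} [AddCommGroup V] [Module ℂ V]
  (π : Representation ℂ G V) {W : Submodule ℂ V}

theorem rsW_val {g : G} (hg : ∀ w ∈ W, π g w ∈ W) (w : W) : (rsW π W g w : V) = π g w := by
  simp [rsW, dif_pos hg, LinearMap.restrict_apply]

theorem rsW_mul {g h : G} (hg : ∀ w ∈ W, π g w ∈ W) (hh : ∀ w ∈ W, π h w ∈ W) :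
    rsW π W (g * h) = rsW π W g * rsW π W h := by
  have hgh : ∀ w ∈ W, π (g * h) w ∈ W := fun w hw => by
    rw [map_mul, Module.End.mul_apply]; exact hg _ (hh w hw)
  refine LinearMap.ext fun w => Subtype.ext ?_
  rw [Module.End.mul_apply, rsW_val π hgh, rsW_val π hg, rsW_val π hh, map_mul, Module.End.mul_apply]

theorem rsW_one : rsW π W (1 : G) = 1 := by
  have h : ∀ w ∈ W, π (1 : G) w ∈ W := fun w hw => by rwa [map_one, Module.End.one_apply]
  refine LinearMap.ext fun w => Subtype.ext ?_
  rw [rsW_val π h, map_one, Module.End.one_apply, Module.End.one_apply]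

theorem stab_invW [FiniteDimensional ℂ V] {g : G} (hg : ∀ w ∈ W, π g w ∈ W) :
    ∀ w ∈ W, π g⁻¹ w ∈ W := by
  intro w hw
  have hinj : Function.Injective ((π g).restrict hg) := fun x y h => Subtype.ext (by
    have e := congrArg Subtype.val h
    simp only [LinearMap.restrict_apply] at e
    have := congrArg (π g⁻¹) e
    rwa [← Module.End.mul_apply, ← Module.End.mul_apply, ← map_mul, inv_mul_cancel, map_one,
      Module.End.one_apply, Module.End.one_apply] at this)
  obtain ⟨x, hx⟩ := LinearMap.injective_iff_surjective.1 hinj ⟨w, hw⟩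
  have e : π g (x : V) = w := congrArg Subtype.val hx
  rw [← e, ← Module.End.mul_apply, ← map_mul, inv_mul_cancel, map_one, Module.End.one_apply]
  exact x.2

theorem trace_rsW_conj [FiniteDimensional ℂ V] {g h : G} (hg : ∀ w ∈ W, π g w ∈ W)
    (hh : ∀ w ∈ W, π h w ∈ W) :
    LinearMap.trace ℂ W (rsW π W (g * h * g⁻¹)) = LinearMap.trace ℂ W (rsW π W h) := by
  have hgh : ∀ w ∈ W, π (g * h) w ∈ W := fun w hw => by
    rw [map_mul, Module.End.mul_apply]; exact hg _ (hh w hw)
  rw [rsW_mul π hgh (stab_invW π hg), rsW_mul π hg hh, LinearMap.trace_mul_comm, ← mul_assoc,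
    ← rsW_mul π (stab_invW π hg) hg, inv_mul_cancel, rsW_one, one_mul]

end rs

/-- The positive classes outside the rank two subsystem. -/
def restC : List ℕ := posC.filter fun r => !(r == 46 || r == 39 || r == 47)

theorem adj_chk :
    (∀ r ∈ [46, 39, 47], validB r = true ∧ rho r = r ∧ parE6.eps r = 1 ∧ clsList [r] = true ∧
      step2B restC restC (restC.flatMap orb) r = true) ∧
    step2B (46 :: 47 :: restC) (46 :: 47 :: restC) ((46 :: 47 :: restC).flatMap orb) 39 = true ∧
    comB 46 47 = true ∧ comB 39 47 = true ∧ tb.tg 39 46 = some 47 ∧ tb.tg 46 39 = some 47 ∧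
    (46 : ℕ) ≠ tb.neg 39 ∧ (39 : ℕ) ≠ tb.neg 46 ∧
    (tb.nn 39 46 = 1 ∨ tb.nn 39 46 = -1) ∧ (tb.nn 46 39 = 1 ∨ tb.nn 46 39 = -1) ∧
    monoB restC restC (oImg [⟨0, by decide⟩]) = true ∧ oImg [⟨0, by decide⟩] 39 = 47 ∧
    monoB restC restC (oImg [⟨1, by decide⟩]) = true ∧ oImg [⟨1, by decide⟩] 46 = 47 ∧
    pairing 0 39 = 1 ∧ monoB posC posC (fun r => r) = true := by
  decide +kernel

variable {K : Type v} [Field K] [Fintype K] {q : ℕ} (C : TwE6.Ctx K q)
include C

/-- The fixed field. -/
def fq : Subfield K := C.f.eqLocusField (RingHom.id K)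

theorem fq_fix (t : fq C) : C.f (t : K) = t := t.2

theorem card_fq : Nat.card (fq C) = q :=
  (Nat.card_congr (Equiv.subtypeEquivRight fun t => by
    show C.f t = t ↔ t ^ q = t
    rw [C.hf])).trans (card_field_fix C.q_gt C.card)

noncomputable instance : Fintype (fq C) := Fintype.ofFinite _

theorem fq_par {r : ℕ} (he : parE6.eps r = 1) (t : fq C) : (t : K) ∈ par C r := fun _ => by
  rw [he, Int.cast_one, one_mul, fq_fix]

variable {V : Type*} [AddCommGroup V] [Module ℂ V] (π : Representation ℂ ↥(twistedE6 K q) V)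

/-- The fixed space of classes normalised by a class is stable. -/
theorem fixed_stable {S : List ℕ} {δ : ℕ} (h : step2B S S (S.flatMap orb) δ = true) {t : K}
    (ht : t ∈ par C δ) : ∀ w ∈ fixedS C π S, π (eltG C δ t) w ∈ fixedS C π S := by
  intro w hw
  have hv : validB δ = true := by
    simp only [step2B, Bool.and_eq_true] at h; exact h.1
  have e := Eigen.step2 C π ((fixed_iff C π).1 hw) h (fun _ _ => rfl) (neg_mem ht)
  rw [eltG_neg C hv ht] at e
  rw [fixed_iff C π]
  refine e.congr' C π fun k _ => ?_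
  suffices key : ∀ ds : List (ℕ × K), ∀ b : ℕ → K, (∀ r, b r = 0) → ∀ r, shL ds b r = 0 from
    key _ _ (fun _ => rfl) k
  intro ds
  induction ds with
  | nil => exact fun b hb => hb
  | cons p ds ih =>
    intro b hb
    exact ih _ fun r => by show sh p.1 p.2 b r = 0; unfold sh; split <;> simp [hb]

variable [FiniteDimensional ℂ V]

/-- The dimension of the fixed space of two commuting classes in an invariant subspace. -/
theorem card_mul_fixed {S : List ℕ} {a b k : ℕ}
    (hr : ∀ r ∈ [a, b, k], validB r = true ∧ rho r = r ∧ parE6.eps r = 1)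
    (hst : ∀ r ∈ [a, b, k], step2B S S (S.flatMap orb) r = true)
    (hba : tb.tg b a = some k) (hne : a ≠ tb.neg b) (hn : tb.nn b a = 1 ∨ tb.nn b a = -1)
    (hak : comB a k = true) :
    ((q : ℂ) * q) * Module.finrank ℂ (fixedS C π (a :: k :: S)) =
      (∑ t : fq C, LinearMap.trace ℂ _ (rsW π (fixedS C π S) (eltG C k (t : K)))) +
        (q : ℂ) * ((∑ t : fq C, LinearMap.trace ℂ _ (rsW π (fixedS C π S) (eltG C a (t : K)))) -
          Module.finrank ℂ (fixedS C π S)) := by
  classical
  obtain ⟨va, fa, ea⟩ := hr a (by simp)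
  obtain ⟨vb, fb, eb⟩ := hr b (by simp)
  obtain ⟨vk, fk, ek⟩ := hr k (by simp)
  have hA : ∀ (t : fq C), ∀ w ∈ fixedS C π S, π (eltG C a (t : K)) w ∈ fixedS C π S :=
    fun t => fixed_stable C π (hst a (by simp)) (fq_par C ea t)
  have hB : ∀ (t : fq C), ∀ w ∈ fixedS C π S, π (eltG C b (t : K)) w ∈ fixedS C π S :=
    fun t => fixed_stable C π (hst b (by simp)) (fq_par C eb t)
  have hK : ∀ (t : fq C), ∀ w ∈ fixedS C π S, π (eltG C k (t : K)) w ∈ fixedS C π S :=
    fun t => fixed_stable C π (hst k (by simp)) (fq_par C ek t)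
  set W := fixedS C π S with hW
  set σ : ↥(twistedE6 K q) → Module.End ℂ W := rsW π W with hσ
  have hAK : ∀ s t : fq C, ∀ w ∈ W, π (eltG C a (s : K) * eltG C k (t : K)) w ∈ W := fun s t w hw => by
    rw [map_mul, Module.End.mul_apply]; exact hA _ _ (hK _ _ hw)
  have hcomm : ∀ s t : fq C, Commute (eltG C a (s : K)) (eltG C k (t : K)) := fun s t =>
    Subtype.ext (by
      rw [Subgroup.coe_mul, Subgroup.coe_mul, eltG_val C va (fq_par C ea s), eltG_val C vk (fq_par C ek t)]
      exact (commute_elt C va vk hak _ _).eq)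
  have hadd : ∀ r ∈ [a, b, k], ∀ s t : fq C,
      eltG C r ((s + t : fq C) : K) = eltG C r (s : K) * eltG C r (t : K) := fun r hr' s t => by
    obtain ⟨v', -, e'⟩ := hr r hr'
    exact eltG_add C v' (fq_par C e' s) (fq_par C e' t)
  have hzero : ∀ r ∈ [a, b, k], eltG C r ((0 : fq C) : K) = 1 := fun r hr' => by
    obtain ⟨v', -, -⟩ := hr r hr'
    exact eltG_zero C v'
  set E : Module.End ℂ W :=
    ((q : ℂ) * q)⁻¹ • ∑ s : fq C, ∑ t : fq C, σ (eltG C a (s : K) * eltG C k (t : K)) with hE
  have hq0 : q ≠ 0 := by have := C.q_gt; omega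
  have hq : ((q : ℂ) * q) ≠ 0 := by simp [hq0]
  have hcard : (Finset.univ : Finset (fq C)).card = q := by
    rw [Finset.card_univ, ← Nat.card_eq_fintype_card, card_fq]
  have hEv : ∀ w : W, (E w : V) = ((q : ℂ) * q)⁻¹ •
      ∑ s : fq C, ∑ t : fq C, π (eltG C a (s : K)) (π (eltG C k (t : K)) w) := fun w => by
    simp only [hE, LinearMap.smul_apply, LinearMap.sum_apply, Submodule.coe_smul, Submodule.coe_sum,
      hσ, rsW_val π (hAK _ _), map_mul, Module.End.mul_apply]
  set F : Submodule ℂ W := (fixedS C π (a :: k :: S)).comap W.subtype with hF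
  have hproj : LinearMap.IsProj F E := by
    refine ⟨fun w => ?_, fun w hw => Subtype.ext ?_⟩
    · rw [hF, Submodule.mem_comap, mem_fixedS]
      intro r hr' hval u hu
      rcases List.mem_cons.1 hr' with rfl | hr'
      · have huf : C.f u = u := by have := hu fa; rwa [ea, Int.cast_one, one_mul] at this
        simp only [Submodule.coe_subtype, hEv, map_smul, map_sum]
        congr 1
        refine Fintype.sum_equiv (Equiv.addLeft (⟨u, huf⟩ : fq C)) _ _ fun s => ?_
        simp only [Equiv.coe_addLeft, hadd _ (by simp : r ∈ [r, b, k]), map_mul, Module.End.mul_apply]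
      rcases List.mem_cons.1 hr' with rfl | hr'
      · have huf : C.f u = u := by have := hu fk; rwa [ek, Int.cast_one, one_mul] at this
        simp only [Submodule.coe_subtype, hEv, map_smul, map_sum]
        congr 1
        refine Finset.sum_congr rfl fun s _ => Fintype.sum_equiv (Equiv.addLeft (⟨u, huf⟩ : fq C)) _ _
          fun t => ?_
        simp only [Equiv.coe_addLeft, hadd _ (by simp : r ∈ [a, b, r]), map_mul, Module.End.mul_apply]
        rw [← Module.End.mul_apply, ← map_mul, ← (hcomm s ⟨u, huf⟩).eq, map_mul, Module.End.mul_apply]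
      · exact (E w).2 r hr' hval u hu
    · rw [hF, Submodule.mem_comap, mem_fixedS] at hw
      have h1 : ∀ s t : fq C, π (eltG C a (s : K)) (π (eltG C k (t : K)) (w : V)) = w := fun s t => by
        have e1 := hw k (by simp) vk (t : K) (fq_par C ek t)
        have e2 := hw a (by simp) va (s : K) (fq_par C ea s)
        simp only [Submodule.coe_subtype] at e1 e2
        rw [e1, e2]
      rw [hEv]
      simp only [h1, Finset.sum_const, hcard, ← Nat.cast_smul_eq_nsmul ℂ, smul_smul]
      rw [inv_mul_cancel₀ hq, one_smul]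
  have hdim : Module.finrank ℂ F = Module.finrank ℂ (fixedS C π (a :: k :: S)) :=
    (Submodule.comapSubtypeEquivOfLe (fixedS_anti C π fun r hr' => by simp [hr'])).finrank_eq
  set c : K := (tb.nn b a : K) with hc
  have hcf : C.f c = c := map_intCast _ _
  have hc0 : c ≠ 0 := by rcases hn with h | h <;> simp [hc, h]
  have hmove : ∀ s t : fq C, s ≠ 0 →
      LinearMap.trace ℂ W (σ (eltG C a (s : K) * eltG C k (t : K))) =
        LinearMap.trace ℂ W (σ (eltG C a (s : K))) := fun s t hs => by
    set u : fq C := ⟨(t : K) / (c * s), show C.f _ = _ by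
      rw [map_div₀, map_mul, hcf, fq_fix, fq_fix]; rfl⟩ with hu
    have e : eltG C a (s : K) * eltG C k (t : K) =
        eltG C b (u : K) * eltG C a (s : K) * (eltG C b (u : K))⁻¹ := Subtype.ext (by
      have hs' : (s : K) ≠ 0 := fun h => hs (Subtype.ext h)
      simp only [Subgroup.coe_mul, Subgroup.coe_inv, eltG_val C va (fq_par C ea s),
        eltG_val C vk (fq_par C ek t), eltG_val C vb (fq_par C eb u), elt,
        if_pos (show parE6.rho a = a from fa), if_pos (show parE6.rho b = b from fb),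
        if_pos (show parE6.rho k = k from fk)]
      have h := xU_conv (K := K) (valid C vb).1 (u : K) (w := [(a, (s : K))]) fun p hp => by
        simp at hp; subst hp; exact ⟨(valid C va).1, hne⟩
      simp only [conv, List.flatMap_cons, List.flatMap_nil, List.append_nil, hba, wU_cons',
        show wU chevE6 ([] : List (ℕ × K)) = 1 by simp [wU], mul_one] at h
      rw [h]
      congr 2
      show (t : K) = c * ((t : K) / (c * s)) * s
      field_simp)
    rw [e]
    exact trace_rsW_conj π (hB _) (hA _)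
  have htr := hproj.trace
  rw [hdim] at htr
  have e1 : ((q : ℂ) * q) * LinearMap.trace ℂ W E =
      ∑ s : fq C, ∑ t : fq C, LinearMap.trace ℂ W (σ (eltG C a (s : K) * eltG C k (t : K))) := by
    simp only [hE, map_smul, map_sum, smul_eq_mul]
    rw [← mul_assoc, mul_inv_cancel₀ hq, one_mul]
  rw [← htr, e1, ← Finset.add_sum_erase _ _ (Finset.mem_univ (0 : fq C))]
  congr 1
  · simp [eltG_zero C va, hσ]
  · rw [Finset.sum_congr rfl fun s hs => by
      rw [Finset.sum_congr rfl fun t _ => hmove s t (Finset.ne_of_mem_erase hs), Finset.sum_const,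
        hcard, nsmul_eq_mul], ← Finset.mul_sum, Finset.sum_erase_eq_sub (Finset.mem_univ _)]
    congr 2
    rw [hzero a (by simp), hσ, rsW_one, LinearMap.trace_one]

theorem sum_trace_refl {S : List ℕ} (ws : List (Fin TwE6.spec.length)) {r r' : ℕ}
    (hr : validB r = true ∧ rho r = r ∧ parE6.eps r = 1)
    (hr' : validB r' = true ∧ rho r' = r' ∧ parE6.eps r' = 1 ∧ clsList [r'] = true)
    (hrr : oImg ws r = r') (hS : monoB S S (oImg ws) = true)
    (hst : step2B S S (S.flatMap orb) r = true) :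
    ∑ t : fq C, LinearMap.trace ℂ _ (rsW π (fixedS C π S) (eltG C r (t : K))) =
      ∑ t : fq C, LinearMap.trace ℂ _ (rsW π (fixedS C π S) (eltG C r' (t : K))) := by
  classical
  obtain ⟨n, e, hn⟩ := exists_word C ws
  have hg' : ∀ w ∈ fixedS C π S, π n⁻¹ w ∈ fixedS C π S := fun w hw =>
    (fixed_iff C π).2 ((Eigen.mono C π ((fixed_iff C π).1 hw) n (oImg ws) e hS
      fun s hs => (hn s hs).2.2).congr' C π fun k _ => zero_mul _)
  have hg : ∀ w ∈ fixedS C π S, π n w ∈ fixedS C π S := by
    have := stab_invW π hg'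
    rwa [inv_inv] at this
  obtain ⟨-, he0, hcj⟩ := hn r (valid C hr.1).1
  rw [hrr] at hcj
  have hef : C.f (e r) = e r := coef_fixed C hr.1 hr.2.1 hr.2.2 hr'.2.2.2 hr'.2.1 hr'.2.2.1 hcj
  have hx : (⟨e r, hef⟩ : fq C) ≠ 0 := fun h => he0 (congrArg Subtype.val h)
  refine Fintype.sum_equiv (Equiv.mulLeft₀ (⟨e r, hef⟩ : fq C) hx) _ _ fun t => ?_
  show _ = LinearMap.trace ℂ _ (rsW π _ (eltG C r' (((⟨e r, hef⟩ : fq C) * t : fq C) : K)))
  rw [← trace_rsW_conj π hg (fixed_stable C π hst (fq_par C hr.2.2 t))]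
  congr 2
  refine Subtype.ext ?_
  simp only [Subgroup.coe_mul, Subgroup.coe_inv, eltG_val C hr.1 (fq_par C hr.2.2 t),
    eltG_val C hr'.1 (fq_par C hr'.2.2.1 _), elt, if_pos (show parE6.rho r = r from hr.2.1),
    if_pos (show parE6.rho r' = r' from hr'.2.1)]
  exact hcj _

/-- The characters of the fourth simple root. -/
theorem lineAt_b (hL : LineAt C π 46) : LineAt C π 39 := by
  classical
  obtain ⟨h3, hst', hak, hbk, hba, hab, hn1, hn2, hs1, hs2, hm0, hi0, hm1, hi1, hpair, hmid⟩ := adj_chk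
  have hr : ∀ r ∈ [46, 39, 47], validB r = true ∧ rho r = r ∧ parE6.eps r = 1 := fun r hr =>
    ⟨(h3 r hr).1, (h3 r hr).2.1, (h3 r hr).2.2.1⟩
  have hst : ∀ r ∈ [46, 39, 47], step2B restC restC (restC.flatMap orb) r = true := fun r hr =>
    (h3 r hr).2.2.2.2
  have hr' : ∀ r ∈ [39, 46, 47], validB r = true ∧ rho r = r ∧ parE6.eps r = 1 := fun r hr' =>
    hr r (by simp at hr' ⊢; tauto)
  have hst2 : ∀ r ∈ [39, 46, 47], step2B restC restC (restC.flatMap orb) r = true := fun r hr' =>
    hst r (by simp at hr' ⊢; tauto)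
  obtain ⟨v46, f46, e46, c46, -⟩ := h3 46 (by simp)
  obtain ⟨v39, f39, e39, c39, -⟩ := h3 39 (by simp)
  obtain ⟨v47, f47, e47, c47, -⟩ := h3 47 (by simp)
  have d1 := card_mul_fixed C π (S := restC) hr hst hba hn1 hs1 hak
  have d2 := card_mul_fixed C π (S := restC) hr' hst2 hab hn2 hs2 hbk
  rw [sum_trace_refl C π (S := restC) [⟨1, by decide⟩] ⟨v46, f46, e46⟩ ⟨v47, f47, e47, c47⟩ hi1 hm1
    (hst 46 (by simp))] at d1
  rw [sum_trace_refl C π (S := restC) [⟨0, by decide⟩] ⟨v39, f39, e39⟩ ⟨v47, f47, e47, c47⟩ hi0 hm0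
    (hst 39 (by simp))] at d2
  have hq : ((q : ℂ) * q) ≠ 0 := by
    have := C.q_gt; simp; omega
  have hdim : Module.finrank ℂ (fixedS C π (46 :: 47 :: restC)) =
      Module.finrank ℂ (fixedS C π (39 :: 47 :: restC)) :=
    Nat.cast_injective (mul_left_cancel₀ hq (d1.trans d2.symm))
  have hsub : ∀ r ∈ 39 :: 47 :: restC, r ∈ posC ∧ ∀ k ∈ orb r, k ≠ 46 := by decide +kernel
  have hlt : Module.finrank ℂ (fixedS C π posC) < Module.finrank ℂ (fixedS C π (39 :: 47 :: restC)) := by
    refine Submodule.finrank_lt_finrank_of_lt (lt_of_le_not_ge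
      (fixedS_anti C π fun r hr => (hsub r hr).1) fun hle => ?_)
    obtain ⟨v, hv, hev⟩ := hL 1 (map_one _) one_ne_zero
    have hfx : v ∈ fixedS C π (39 :: 47 :: restC) := fun r hr hval t ht => by
      rw [hev r (hsub r hr).1 hval t ht, lam_congr C (a := ind 46 (1 : K)) (b := fun _ => 0) fun k hk =>
        if_neg ((hsub r hr).2 k hk), lam_zero C, AddChar.map_zero_eq_one, one_smul]
    have hp1 : (1 : K) ∈ par C 46 := par_one C fun _ => e46
    have e := (hev 46 (by decide) v46 1 hp1).symm.trans ((hle hfx) 46 (by decide) v46 1 hp1)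
    rw [orbW, if_pos f46] at e
    have e' : (Psi K (lam (ind 46 (1 : K)) [(46, 1)]) - 1) • v = 0 := by
      rw [sub_smul, one_smul, e, sub_self]
    refine psi_one (K := K) (sub_eq_zero.1 ?_)
    have := (smul_eq_zero.1 e').resolve_right hv
    simpa [lam, ind] using this
  rw [← hdim] at hlt
  obtain ⟨w, hw, hwn⟩ : ∃ w ∈ fixedS C π (46 :: 47 :: restC), w ∉ fixedS C π posC := by
    by_contra! hh
    exact absurd (Submodule.finrank_mono (show fixedS C π (46 :: 47 :: restC) ≤ fixedS C π posC from hh))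
      (not_le.2 hlt)
  letI : Fintype (par C 39) := Fintype.ofFinite _
  set R : par C 39 → Module.End ℂ V := fun t => π (eltG C 39 (t : K)) with hR
  have hadd : ∀ s t, R s * R t = R (s + t) := fun s t => by
    simp only [hR, ← map_mul, AddSubgroup.coe_add, eltG_add C v39 s.2 t.2]
  have hR0 : R 0 = 1 := by simp only [hR, AddSubgroup.coe_zero, eltG_zero C v39, map_one]
  have hPw : ∀ χ : AddChar (par C 39) ℂ, proj R χ w ∈ fixedS C π (46 :: 47 :: restC) := fun χ => by
    simp only [proj, LinearMap.smul_apply, LinearMap.sum_apply]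
    exact Submodule.smul_mem _ _ (Submodule.sum_mem _ fun t _ =>
      Submodule.smul_mem _ _ (fixed_stable C π hst' t.2 w hw))
  have hmem : ∀ r ∈ posC, r = 39 ∨ r ∈ 46 :: 47 :: restC := by decide +kernel
  obtain ⟨χ, hχ, hχw⟩ : ∃ χ : AddChar (par C 39) ℂ, χ ≠ 1 ∧ proj R χ w ≠ 0 := by
    by_contra! hh
    refine hwn fun r hr hval t ht => ?_
    rcases hmem r hr with rfl | hr'
    · have e : w = proj R 1 w := by
        conv_lhs => rw [← Module.End.one_apply (R := ℂ) w, ← sum_proj hR0, LinearMap.sum_apply]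
        rw [Finset.sum_eq_single 1 (fun χ _ hne => hh χ hne) (by simp)]
      rw [e]
      show (R ⟨t, ht⟩ * proj R 1) w = _
      rw [mul_proj hadd, AddChar.one_apply, one_smul]
    · exact hw r hr' hval t ht
  obtain ⟨l, hl, hlχ⟩ := exists_par_coef C v39 f39 e39 χ
  have hl0 : l ≠ 0 := fun h => hχ (DFunLike.ext _ _ fun t => by
    rw [hlχ, h, zero_mul, AddChar.map_zero_eq_one, AddChar.one_apply])
  have hne39 : ∀ r ∈ 46 :: 47 :: restC, ∀ k ∈ orb r, k ≠ 39 := by decide +kernel
  have hev : Eigen C π posC (ind 39 l) (proj R χ w) := fun r hr hval t ht => by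
    rcases hmem r hr with rfl | hr'
    · show (R ⟨t, ht⟩ * proj R χ) w = _
      rw [mul_proj hadd, LinearMap.smul_apply, hlχ, orbW, if_pos f39]
      simp [lam, ind]
    · rw [hPw χ r hr' hval t ht, lam_congr C (a := ind 39 l) (b := fun _ => 0) fun k hk =>
        if_neg (hne39 r hr' k hk), lam_zero C, AddChar.map_zero_eq_one, one_smul]
  intro c hc hc0
  set u : Kˣ := Units.mk0 (c / l) (div_ne_zero hc0 hl0) with hu
  have huf : C.fu u = u := Units.ext (show C.f (c / l) = c / l by rw [map_div₀, hc, hl])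
  refine ⟨_, pi_ne_zero C π (⟨_, torE_mem C huf 0⟩ : ↥(twistedE6 K q))⁻¹ hχw,
    (Eigen.mono C π hev ⟨_, torE_mem C huf 0⟩ (fun r => r)
      (fun r => ((u ^ pairing 0 r : Kˣ) : K)) hmid
      (fun r hr x => torE_conj C u 0 hr x)).congr' C π fun k _ => ?_⟩
  by_cases hk : k = 39
  · subst hk
    rw [hpair, zpow_one, hu]
    simp [ind, mul_div_cancel₀ _ hl0]
  · simp [ind, hk]

end CfsgLib.Known.TwLieDegree
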