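/-
The two values just below the minimal degree of ²E₆(q) do not divide the group order.
-/
import Mathlib
import Cfsg.Agent.Lib.Known.LieDegree.Arith
import Cfsg.Agent.Lib.Chev.Table

set_option autoImplicit false
set_option maxRecDepth 100000
set_option maxHeartbeats 2000000

namespace CfsgLib.Known.TwLieDegree

open CfsgLib.Known.LieDegree CfsgLib.Chev.Table

/-- The bound. -/
def bnd (q : ℕ) : ℕ := q * (q ^ 6 - q ^ 3 + 1) * (q ^ 4 + 1)

/-- The part of the order prime to the characteristic, up to the order of the centre. -/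
def ordP (q : ℕ) : ℕ :=
  (q ^ 2 - 1) * (q ^ 5 + 1) * (q ^ 6 - 1) * (q ^ 8 - 1) * (q ^ 9 + 1) * (q ^ 12 - 1)

/-- The bound as a coefficient list. -/
def bndL : List ℤ := [0, 1, 0, 0, -1, 1, 0, 1, -1, 0, 0, 1]

/-- The order as a coefficient list. -/
def ordL : List ℤ :=
  pmul (cycL [2, 6, 8, 12]) (pmul (padd [1] (mono 5)) (padd [1] (mono 9)))

theorem bndL_eval {q : ℕ} (hq : 1 ≤ q) : pev bndL q = bnd q := by
  have h : q ^ 3 ≤ q ^ 6 := Nat.pow_le_pow_right hq (by norm_num)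
  simp only [bndL, pev, bnd, Nat.cast_mul, Nat.cast_add, Nat.cast_sub h, Nat.cast_pow, Nat.cast_one]
  ring

theorem ordL_eval {q : ℕ} (hq : 1 ≤ q) : pev ordL q = ordP q := by
  have h : ∀ e : ℕ, ((q ^ e - 1 : ℕ) : ℤ) = (q : ℤ) ^ e - 1 := fun e => by
    rw [Nat.cast_sub (Nat.one_le_pow _ _ hq), Nat.cast_pow, Nat.cast_one]
  simp only [ordL, pev_pmul, pev_padd, pev_mono, pev_cycL, ordP, Nat.cast_mul, Nat.cast_add,
    Nat.cast_pow, Nat.cast_one, h, List.map_cons, List.map_nil, List.prod_cons, List.prod_nil, pev]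
  ring

theorem bnd_bounds {q : ℕ} (hq : 2 ≤ q) : bnd q ≤ q ^ 11 ∧ q ^ 11 + 4 ≤ 2 * bnd q := by
  have e := bndL_eval (show 1 ≤ q by omega)
  simp only [bndL, pev] at e
  have hq' : (2 : ℤ) ≤ q := by exact_mod_cast hq
  have h : ∀ a b : ℕ, a < b → 2 * (q : ℤ) ^ a ≤ (q : ℤ) ^ b := fun a b hab => by
    calc 2 * (q : ℤ) ^ a ≤ q * q ^ a := by gcongr
      _ = (q : ℤ) ^ (a + 1) := by ring
      _ ≤ (q : ℤ) ^ b := pow_le_pow_right₀ (by omega) hab
  have a1 := h 7 8 (by norm_num)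
  have a2 := h 5 7 (by norm_num)
  have a3 := h 1 5 (by norm_num)
  have a4 := h 8 9 (by norm_num)
  have a5 := h 9 11 (by norm_num)
  have a6 := h 4 5 (by norm_num)
  have a7 := h 5 6 (by norm_num)
  have e' : (bnd q : ℤ) = (q : ℤ) ^ 11 - q ^ 8 + q ^ 7 + q ^ 5 - q ^ 4 + q := by rw [← e]; ring
  have p4 : 0 ≤ (q : ℤ) ^ 4 := by positivity
  have p7 : 0 ≤ (q : ℤ) ^ 7 := by positivity
  have p9 : 0 ≤ (q : ℤ) ^ 9 := by positivity
  rw [pow_one] at a3
  constructor
  · have : (bnd q : ℤ) ≤ (q : ℤ) ^ 11 := by linarith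
    exact_mod_cast this
  · have : (q : ℤ) ^ 11 + 4 ≤ 2 * (bnd q : ℤ) := by linarith
    exact_mod_cast this

/-- Small values. -/
def smallB (j len : ℕ) : Bool :=
  allBelow len fun q => Nat.blt q 2 || !(Nat.beq ((j * ordP q) % (bnd q - j)) 0)

theorem rem1 {q : ℤ} (hq : 50 ≤ q) (hN : q ^ 11 ≤ 2 * (pev bndL q - 1)) :
    ¬ (2 * (pev bndL q - 1)) ∣ 2 * pev ordL q := by
  have e : 2 * (pev bndL q - 1) = pev (psmul 2 (padd [-1] bndL)) q := by
    rw [pev_psmul, pev_padd]; simp [pev]; ring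
  rw [e] at hN ⊢
  exact not_dvd_of_rem (P := ordL) (R0 := [-44, 96, -80, 24, -12, 34, -30, 62, -94, 58])
    (Qp := [-23, 25, -14, -2, 15, -17, 8, 5, -11, 10, -3, -4, 6, -4, 1, 1, -3, 3, 1, -3, 2, 0, -1, 2, -2, 0,
    0, -1, 1, -1, 0, 1])
    (c := 2) (C := 96) (B := 49) (by norm_num) (by decide +kernel) rfl (by decide +kernel)
    (by norm_num) (by norm_num) (by norm_num) hq hN

theorem small1 : smallB 1 50 = true := by decide +kernel

theorem rem2 {q : ℤ} (hq : 114 ≤ q) (hN : q ^ 11 ≤ 2 * (pev bndL q - 2)) :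
    ¬ (2 * (pev bndL q - 2)) ∣ 4 * pev ordL q := by
  have e : 2 * (pev bndL q - 2) = pev (psmul 2 (padd [-2] bndL)) q := by
    rw [pev_psmul, pev_padd]; simp [pev]; ring
  rw [e] at hN ⊢
  exact not_dvd_of_rem (P := ordL) (R0 := [-332, 672, -648, 252, 12, 0, -100, 340, -536, 448])
    (Qp := [-84, 126, -98, 14, 52, -80, 48, 12, -42, 44, -14, -10, 20, -18, 6, 0, -10, 10, 0, -6, 6, 0, -2,
    4, -4, 0, 0, -2, 2, -2, 0, 2])
    (c := -108) (C := 672) (B := 113) (by norm_num) (by decide +kernel) rfl (by decide +kernel)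
    (by norm_num) (by norm_num) (by norm_num) hq hN

theorem small2 : smallB 2 114 = true := by decide +kernel

/-- The values just below the bound. -/
theorem not_dvd_mul {q j : ℕ} (hq : 2 ≤ q) (hj1 : 1 ≤ j) (hj : j ≤ 2) :
    ¬ (bnd q - j ∣ j * ordP q) := by
  intro h
  obtain ⟨-, hb⟩ := bnd_bounds hq
  have hN : (q : ℤ) ^ 11 ≤ 2 * (pev bndL q - j) := by
    rw [bndL_eval (by omega)]
    have : ((q ^ 11 + 4 : ℕ) : ℤ) ≤ ((2 * bnd q : ℕ) : ℤ) := by exact_mod_cast hb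
    push_cast at this; have : (j : ℤ) ≤ 2 := (by exact_mod_cast hj)
    linarith
  have hjb : j ≤ bnd q := by omega
  have hd : 2 * (pev bndL q - (j : ℤ)) ∣ 2 * ((j : ℤ) * pev ordL q) := by
    rw [bndL_eval (by omega), ordL_eval (by omega : 1 ≤ q), ← Nat.cast_sub hjb, ← Nat.cast_mul]
    exact mul_dvd_mul_left 2 (Int.natCast_dvd_natCast.2 h)
  have hsmall : ∀ len, smallB j len = true → ¬ q < len := fun len hs hl => by
    have := allBelow_spec hs q hl
    simp only [Bool.or_eq_true, blt_iff, Bool.not_eq_true'] at this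
    rcases this with h' | h'
    · omega
    · rw [Nat.mod_eq_zero_of_dvd h] at h'; simp at h'
  interval_cases j
  · exact rem1 (q := (q : ℤ)) (by exact_mod_cast Nat.not_lt.1 (hsmall 50 small1)) (by simpa using hN)
      (by simpa using hd)
  · refine rem2 (q := (q : ℤ)) (by exact_mod_cast Nat.not_lt.1 (hsmall 114 small2)) (by simpa using hN) ?_
    simpa [← mul_assoc] using hd

theorem tiny : ¬ (bnd 2 - 2 ∣ 2 ^ 36 * ordP 2) := by
  decide +kernel

end CfsgLib.Known.TwLieDegree
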