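/-
Counting the characters of one layer of root classes of ²E₆ occurring in the fixed space of the layers above.
-/
import Mathlib
import Cfsg.Agent.Lib.Known.TwLieDegree.Adjacent

set_option autoImplicit false
set_option maxRecDepth 20000
set_option maxHeartbeats 1000000
set_option linter.unusedSectionVars false

namespace CfsgLib.Known.TwLieDegree

open Cfsg.Lie CfsgLib.Chev CfsgLib.Chev.Table CfsgLib.Known.RootLift.E6 CfsgLib.Known.D4Degree

universe v

/-- A layer of classes with the data to move and spread the character of one fixed root. -/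
structure Lev where
  node : ℕ
  prev : List ℕ
  layer : List ℕ
  steps : List (ℕ × List (Fin TwE6.spec.length) × ℕ)
  /-- A fixed root with classes, each with the class of its marker. -/
  cells : List (ℕ × List (ℕ × ℕ))

/-- The layer together with the classes above it. -/
def Lev.all (l : Lev) : List ℕ := l.prev ++ l.layer

/-- The roots of the classes of a cell. -/
def cellRoots (ds : List (ℕ × ℕ)) : List ℕ := (ds.map Prod.fst).flatMap orb

/-- The roots of a cell with their markers. -/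
def cellMarks (ds : List (ℕ × ℕ)) : List (ℕ × ℕ) :=
  ds.flatMap fun p => if rho p.1 = p.1 then [p] else [p, (rho p.1, rho p.2)]

/-- The roots reached by the steps. -/
def reachC (S : List ℕ) : List ℕ → List (ℕ × List (Fin TwE6.spec.length) × ℕ) → Bool
  | _, [] => true
  | done, (γ, ws, γ') :: rest =>
    done.contains γ' && monoB S S (oImg ws) && validB γ && (rho γ == γ) && (parE6.eps γ == 1) &&
      validB γ' && (rho γ' == γ') && (parE6.eps γ' == 1) && clsList [γ'] && Nat.blt γ 72 &&
      (oImg ws γ == γ') && (S.flatMap orb).all (fun r => (r == γ) || !(oImg ws r == γ')) &&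
      reachC S (γ :: done) rest

/-- The checks on one cell. -/
def cellB (l : Lev) (γ : ℕ) (ds : List (ℕ × ℕ)) : Bool :=
  let P := l.prev.flatMap orb
  let L := l.layer.flatMap orb
  l.layer.contains γ && !(P.contains γ) && validB γ && (rho γ == γ) && (parE6.eps γ == 1) &&
  decide (cellRoots ds).Nodup &&
  ds.all (fun p => validB p.1 && step2B l.all l.all P p.1 && l.layer.contains p.2 && validB p.2 &&
    ((rho p.1 == p.1) == (rho p.2 == p.2)) &&
    (if rho p.1 == p.1 then parE6.eps p.1 == 1 && parE6.eps p.2 == 1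
     else tb.nn (rho p.1) (rho p.2) * parE6.eps p.1 == parE6.eps p.2 * tb.nn p.1 p.2)) &&
  (cellRoots ds).all (fun d => (tb.tg d γ).isNone &&
    P.all (fun r => match tb.tg d r with | none => true | some k => P.contains k) &&
    L.all (fun r => !(Nat.blt γ r) ||
      (match tb.tg d r with | none => true | some k => P.contains k || (L.contains k && Nat.blt γ k)))) &&
  (cellMarks ds).all (fun m => L.contains m.2 && (tb.tg m.1 m.2 == some γ) && !(m.2 == γ) &&
    (tb.nn m.1 m.2 == 1 || tb.nn m.1 m.2 == -1) &&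
    (cellRoots ds).all (fun d => (d == m.1) || (tb.tg d m.2).isNone))

/-- The checks on a layer. -/
def Lev.checkB (l : Lev) : Bool :=
  l.all.all (fun r => posC.contains r) && l.layer.all validB && l.layer.contains l.node &&
  reachC l.all [l.node] l.steps && decide (l.cells.map Prod.fst).Nodup &&
  l.cells.all fun c => (l.node :: l.steps.map Prod.fst).contains c.1 && cellB l c.1 c.2

/-- The number of characters the layer contributes. -/
def Lev.count (l : Lev) (q : ℕ) : ℕ :=
  (l.cells.map fun c => (q - 1) * q ^ (cellRoots c.2).length).sum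

variable {K : Type v} [Field K] [Fintype K]

/-- The values of a functional spread by the roots of a cell. -/
theorem spread_val {γ : ℕ} {P L R : List ℕ}
    (hR : ∀ d ∈ R, tb.tg d γ = none ∧
      (∀ r ∈ P, tb.tg d r = none ∨ ∃ k, tb.tg d r = some k ∧ k ∈ P) ∧
      ∀ r ∈ L, γ < r → tb.tg d r = none ∨ ∃ k, tb.tg d r = some k ∧ (k ∈ P ∨ (k ∈ L ∧ γ < k)))
    (hγP : γ ∉ P) (c : K) :
    ∀ w : List (ℕ × K), (∀ p ∈ w, p.1 ∈ R) → (w.map Prod.fst).Nodup →
      shL w (ind γ c) γ = c ∧ (∀ r ∈ P, shL w (ind γ c) r = 0) ∧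
        (∀ r ∈ L, γ < r → shL w (ind γ c) r = 0) ∧
        ∀ d r : ℕ, d ∈ R → tb.tg d r = some γ → (∀ d' ∈ R, d' ≠ d → tb.tg d' r = none) → r ≠ γ →
          (d ∉ w.map Prod.fst → shL w (ind γ c) r = 0) ∧
          ∀ u, (d, u) ∈ w → shL w (ind γ c) r = (tb.nn d r : K) * u * c := by
  intro w
  induction w using List.reverseRecOn with
  | nil =>
    intro _ _
    refine ⟨if_pos rfl, fun r hr => if_neg fun e : r = γ => hγP (e ▸ hr),
      fun r _ hr => if_neg hr.ne', fun d r _ _ _ hne => ⟨fun _ => if_neg hne, fun u hu => ?_⟩⟩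
    simp at hu
  | append_singleton w p ih =>
    intro hw hnd
    rw [List.map_append, List.map_singleton, List.nodup_append] at hnd
    obtain ⟨hnd1, -, hdis⟩ := hnd
    have hp : p.1 ∈ R := hw p (by simp)
    obtain ⟨i1, i2, i3, i4⟩ := ih (fun x hx => hw x (List.mem_append_left _ hx)) hnd1
    obtain ⟨hg, hP, hL⟩ := hR p.1 hp
    have e : shL (w ++ [p]) (ind γ c) = sh p.1 p.2 (shL w (ind γ c)) := by simp [shL]
    rw [e]
    refine ⟨by rw [sh, hg]; exact i1, fun r hr => ?_, fun r hr hγr => ?_,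
      fun d r hd htg hoth hne => ⟨fun hdw => ?_, fun u hu => ?_⟩⟩
    · rcases hP r hr with h | ⟨k, h, hk⟩
      · rw [sh, h]; exact i2 r hr
      · rw [sh, h]
        show shL w (ind γ c) r + _ * shL w (ind γ c) k = 0
        rw [i2 r hr, i2 k hk, mul_zero, add_zero]
    · rcases hL r hr hγr with h | ⟨k, h, hk⟩
      · rw [sh, h]; exact i3 r hr hγr
      · rw [sh, h]
        show shL w (ind γ c) r + _ * shL w (ind γ c) k = 0
        rw [i3 r hr hγr, show shL w (ind γ c) k = 0 from hk.elim (i2 k) fun h => i3 k h.1 h.2, mul_zero,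
          add_zero]
    · simp only [List.map_append, List.map_singleton, List.mem_append, List.mem_singleton, not_or] at hdw
      rw [sh, hoth p.1 hp (Ne.symm hdw.2)]
      exact (i4 d r hd htg hoth hne).1 hdw.1
    · rcases List.mem_append.1 hu with hu | hu
      · have hne' : p.1 ≠ d := fun e' => hdis d (List.mem_map.2 ⟨_, hu, rfl⟩) p.1 (by simp) e'.symm
        rw [sh, hoth p.1 hp hne']
        exact (i4 d r hd htg hoth hne).2 u hu
      · obtain rfl := List.mem_singleton.1 hu
        rw [sh, htg]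
        show shL w (ind γ c) r + _ * shL w (ind γ c) γ = _
        rw [(i4 d r hd htg hoth hne).1 fun h => hdis d h d (by simp) rfl, i1, zero_add]

variable {q : ℕ} (C : TwE6.Ctx K q)
include C

theorem card_par {r : ℕ} (hr : rho r = r → parE6.eps r = 1) :
    Nat.card (par C r) = q ^ (orb r).length := by
  by_cases h : rho r = r
  · rw [orb, if_pos (show parE6.rho r = r from h), List.length_singleton, pow_one]
    have hf : ∀ t : par C r, C.f t.1 = t.1 := fun t => by
      have := t.2 h
      rwa [hr h, Int.cast_one, one_mul] at this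
    let e : par C r ≃ fq C :=
      { toFun := fun t => ⟨t.1, hf t⟩
        invFun := fun t => ⟨t.1, fq_par C (hr h) t⟩
        left_inv := fun _ => rfl
        right_inv := fun _ => rfl }
    exact (Nat.card_congr e).trans (card_fq C)
  · rw [orb, if_neg (show ¬ parE6.rho r = r from h), List.length_cons, List.length_singleton,
      show (1 + 1 : ℕ) = 2 from rfl, ← C.card, ← Nat.card_eq_fintype_card]
    exact Nat.card_congr ⟨fun t => t.1, fun t => ⟨t, fun e => absurd e h⟩, fun _ => rfl, fun _ => rfl⟩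

/-- The word of a cell with parameters. -/
def cellW (ds : List (ℕ × ℕ)) (t : ℕ → K) : List (ℕ × K) := ds.flatMap fun p => orbW C p.1 (t p.1)

theorem cellW_fst (ds : List (ℕ × ℕ)) (t : ℕ → K) : (cellW C ds t).map Prod.fst = cellRoots ds := by
  induction ds with
  | nil => rfl
  | cons p ds ih =>
    simp only [cellW, cellRoots, List.flatMap_cons, List.map_cons, List.map_append] at ih ⊢
    rw [ih]
    congr 1
    rw [orbW, orb]; unfold rho; split <;> rfl

variable {V : Type*} [AddCommGroup V] [Module ℂ V] (π : Representation ℂ ↥(twistedE6 K q) V)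

/-- A character on one root moves along the steps. -/
theorem reach_spec {S : List ℕ} :
    ∀ (steps : List (ℕ × List (Fin TwE6.spec.length) × ℕ)) (done : List ℕ), reachC S done steps = true →
      (∀ γ ∈ done, ∀ c : K, C.f c = c → c ≠ 0 → ∃ v : V, v ≠ 0 ∧ Eigen C π S (ind γ c) v) →
      ∀ γ ∈ done ++ steps.map Prod.fst, ∀ c : K, C.f c = c → c ≠ 0 →
        ∃ v : V, v ≠ 0 ∧ Eigen C π S (ind γ c) v := by
  intro steps
  induction steps with
  | nil => exact fun done _ hd γ hγ => hd γ (by simpa using hγ)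
  | cons s rest ih =>
    obtain ⟨γ₁, ws, γ'⟩ := s
    intro done h hd γ hγ
    simp only [reachC, Bool.and_eq_true, List.contains_iff_mem, beq_iff_eq, blt_iff, List.all_eq_true,
      Bool.or_eq_true, Bool.not_eq_true', beq_eq_false_iff_ne] at h
    obtain ⟨⟨⟨⟨⟨⟨⟨⟨⟨⟨⟨⟨hdone, hmono⟩, hv⟩, hf⟩, he⟩, -⟩, hf'⟩, he'⟩, hcl'⟩, hlt⟩, himg⟩, huniq⟩, hrest⟩ := h
    refine ih (γ₁ :: done) hrest (fun δ hδ => ?_) γ ?_
    swap
    · simp only [List.mem_append, List.map_cons, List.mem_cons] at hγ ⊢
      tauto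
    rcases List.mem_cons.1 hδ with rfl | hδ'
    swap
    · exact hd δ hδ'
    intro c hc hc0
    obtain ⟨n, e, hn⟩ := exists_word C ws
    obtain ⟨-, he0, hcj⟩ := hn _ hlt
    rw [himg] at hcj
    have hef := coef_fixed C hv hf he hcl' hf' he' hcj
    obtain ⟨v, hv0, hev⟩ := hd γ' hdone (c / e δ) (by rw [map_div₀, hc, hef]) (div_ne_zero hc0 he0)
    refine ⟨π n⁻¹ v, pi_ne_zero C π _ hv0,
      (Eigen.mono C π hev n (oImg ws) e hmono fun r hr => (hn r hr).2.2).congr' C π fun r hr => ?_⟩
    by_cases hr' : r = δ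
    · subst hr'
      simp [ind, himg, div_mul_cancel₀ _ he0]
    · simp [ind, hr', (huniq r hr).resolve_left hr']

/-- The characters spread from one root by the classes of a cell. -/
theorem cell_spread {l : Lev} {γ : ℕ} {P L : List ℕ} {c : K} {v : V} (hv : v ≠ 0)
    (hev : Eigen C π l.all (ind γ c) v) (hγP : γ ∉ P) {R : List ℕ}
    (hR : ∀ d ∈ R, tb.tg d γ = none ∧
      (∀ r ∈ P, tb.tg d r = none ∨ ∃ k, tb.tg d r = some k ∧ k ∈ P) ∧
      ∀ r ∈ L, γ < r → tb.tg d r = none ∨ ∃ k, tb.tg d r = some k ∧ (k ∈ P ∨ (k ∈ L ∧ γ < k)))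
    (t : ℕ → K) : ∀ ds : List (ℕ × ℕ),
      (∀ p ∈ ds, step2B l.all l.all P p.1 = true ∧ t p.1 ∈ par C p.1) →
      (∀ d ∈ cellRoots ds, d ∈ R) → (cellRoots ds).Nodup →
      ∃ w : V, w ≠ 0 ∧ Eigen C π l.all (shL (cellW C ds t) (ind γ c)) w := by
  intro ds
  induction ds using List.reverseRecOn with
  | nil => exact fun _ _ _ => ⟨v, hv, hev⟩
  | append_singleton ds p ih =>
    intro hds hsub hnd
    have hsplit : cellRoots (ds ++ [p]) = cellRoots ds ++ orb p.1 := by simp [cellRoots]
    rw [hsplit] at hsub hnd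
    have hnd' := (List.nodup_append.1 hnd).1
    have hsub' : ∀ d ∈ cellRoots ds, d ∈ R := fun d hd => hsub d (List.mem_append_left _ hd)
    obtain ⟨w, hw, hwe⟩ := ih (fun x hx => hds x (List.mem_append_left _ hx)) hsub' hnd'
    obtain ⟨hst, ht⟩ := hds p (by simp)
    have hval := spread_val hR hγP c (cellW C ds t)
      (fun x hx => hsub' _ (by rw [← cellW_fst C ds t]; exact List.mem_map.2 ⟨x, hx, rfl⟩))
      (by rw [cellW_fst]; exact hnd')
    refine ⟨_, pi_ne_zero C π (eltG C p.1 (t p.1))⁻¹ hw, ?_⟩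
    have := Eigen.step2 C π hwe hst hval.2.1 ht
    rwa [show cellW C (ds ++ [p]) t = cellW C ds t ++ orbW C p.1 (t p.1) by simp [cellW],
      show shL (cellW C ds t ++ orbW C p.1 (t p.1)) (ind γ c) =
        shL (orbW C p.1 (t p.1)) (shL (cellW C ds t) (ind γ c)) by simp [shL, List.foldl_append]]

variable [FiniteDimensional ℂ V]

/-- The bound contributed by one layer. -/
theorem level_bound {l : Lev} (h : l.checkB = true) (hL : LineAt C π l.node) :
    Module.finrank ℂ (fixedS C π l.all) + l.count q ≤ Module.finrank ℂ (fixedS C π l.prev) := by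
  classical
  simp only [Lev.checkB, Bool.and_eq_true, List.all_eq_true, List.contains_iff_mem,
    decide_eq_true_eq] at h
  obtain ⟨⟨⟨⟨⟨hpos, hlv⟩, -⟩, hreach⟩, hnd⟩, hcells⟩ := h
  have hbase : ∀ γ ∈ [l.node], ∀ c : K, C.f c = c → c ≠ 0 →
      ∃ v : V, v ≠ 0 ∧ Eigen C π l.all (ind γ c) v := fun γ hγ c hc hc0 => by
    obtain rfl := List.mem_singleton.1 hγ
    obtain ⟨v, hv, he⟩ := hL c hc hc0
    exact ⟨v, hv, he.sub C π hpos⟩
  set P := l.prev.flatMap orb with hP
  set L := l.layer.flatMap orb with hLd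
  have hcell : ∀ k : Fin l.cells.length, (l.cells.get k).1 ∈ l.layer ∧ (l.cells.get k).1 ∉ P ∧
      validB (l.cells.get k).1 = true ∧ rho (l.cells.get k).1 = (l.cells.get k).1 ∧
      parE6.eps (l.cells.get k).1 = 1 ∧ (cellRoots (l.cells.get k).2).Nodup ∧
      (∀ p ∈ (l.cells.get k).2, validB p.1 = true ∧ step2B l.all l.all P p.1 = true ∧ p.2 ∈ l.layer ∧
        validB p.2 = true ∧ ((rho p.1 == p.1) = (rho p.2 == p.2)) ∧
        (if rho p.1 = p.1 then parE6.eps p.1 = 1 ∧ parE6.eps p.2 = 1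
         else tb.nn (rho p.1) (rho p.2) * parE6.eps p.1 = parE6.eps p.2 * tb.nn p.1 p.2)) ∧
      (∀ d ∈ cellRoots (l.cells.get k).2, tb.tg d (l.cells.get k).1 = none ∧
        (∀ r ∈ P, tb.tg d r = none ∨ ∃ j, tb.tg d r = some j ∧ j ∈ P) ∧
        ∀ r ∈ L, (l.cells.get k).1 < r →
          tb.tg d r = none ∨ ∃ j, tb.tg d r = some j ∧ (j ∈ P ∨ (j ∈ L ∧ (l.cells.get k).1 < j))) ∧
      ∀ m ∈ cellMarks (l.cells.get k).2, tb.tg m.1 m.2 = some (l.cells.get k).1 ∧ m.2 ≠ (l.cells.get k).1 ∧
        (tb.nn m.1 m.2 = 1 ∨ tb.nn m.1 m.2 = -1) ∧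
        ∀ d ∈ cellRoots (l.cells.get k).2, d ≠ m.1 → tb.tg d m.2 = none := fun k => by
    have hc := (hcells _ (List.get_mem l.cells k)).2
    simp only [cellB, Bool.and_eq_true, List.contains_iff_mem, Bool.not_eq_true', beq_iff_eq,
      decide_eq_true_eq, List.all_eq_true, Option.isNone_iff_eq_none, Bool.or_eq_true, blt_iff,
      beq_eq_false_iff_ne] at hc
    obtain ⟨⟨⟨⟨⟨⟨⟨⟨c1, c2⟩, c3⟩, c4⟩, c5⟩, c6⟩, c7⟩, c8⟩, c9⟩ := hc
    refine ⟨c1, by simpa [hP] using c2, c3, c4, c5, c6, fun p hp => ?_, fun d hd => ?_, fun m hm => ?_⟩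
    · obtain ⟨⟨⟨⟨⟨p1, p2⟩, p3⟩, p4⟩, p5⟩, p6⟩ := c7 p hp
      refine ⟨p1, p2, p3, p4, p5, ?_⟩
      by_cases hρ : rho p.1 = p.1
      · rw [if_pos hρ] at p6 ⊢
        simpa using p6
      · rw [if_neg hρ] at p6 ⊢
        simpa using p6
    · obtain ⟨⟨d1, d2⟩, d3⟩ := c8 d hd
      refine ⟨d1, fun r hr => ?_, fun r hr hlt => ?_⟩
      · have := d2 r hr
        rcases hk : tb.tg d r with _ | j
        · exact Or.inl rfl
        · simp only [hk, List.contains_iff_mem] at this
          exact Or.inr ⟨j, rfl, this⟩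
      · have := d3 r hr
        rcases hk : tb.tg d r with _ | j
        · exact Or.inl rfl
        · simp only [hk, Bool.or_eq_true, List.contains_iff_mem, Bool.and_eq_true, blt_iff] at this
          rcases this with h | h
          · exact absurd (blt_iff.2 hlt) (by rw [h]; decide)
          · exact Or.inr ⟨j, rfl, h⟩
    · obtain ⟨⟨⟨⟨-, m1⟩, m2⟩, m3⟩, m4⟩ := c9 m hm
      exact ⟨m1, m2, m3, fun d hd hne => (m4 d hd).resolve_left hne⟩
  let ι := Σ k : Fin l.cells.length, {c : fq C // c ≠ 0} ×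
    ((m : Fin (l.cells.get k).2.length) → par C ((l.cells.get k).2.get m).1)
  haveI : ∀ r, Fintype (par C r) := fun r => Fintype.ofFinite _
  have hex : ∀ i : ι, ∃ (w : V) (a : ℕ → K), w ≠ 0 ∧ Eigen C π l.all a w ∧
      (∀ r ∈ P, a r = 0) ∧ (∀ r ∈ L, (l.cells.get i.1).1 < r → a r = 0) ∧
      a (l.cells.get i.1).1 = (i.2.1.1 : K) ∧
      ∀ m : Fin (l.cells.get i.1).2.length,
        a ((l.cells.get i.1).2.get m).2 =
          (tb.nn ((l.cells.get i.1).2.get m).1 ((l.cells.get i.1).2.get m).2 : K) * (i.2.2 m : K) *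
            (i.2.1.1 : K) ∧
        Inv C a ((l.cells.get i.1).2.get m).2 := by
    rintro ⟨k, ⟨c, hc0⟩, u⟩
    dsimp only at u ⊢
    obtain ⟨-, hγP, -, -, -, hnd', hds, hR, hM⟩ := hcell k
    obtain ⟨v, hv, hev⟩ := reach_spec C π l.steps [l.node] hreach hbase (l.cells.get k).1
      (by simpa using (hcells _ (List.get_mem l.cells k)).1) (c : K) (fq_fix C c)
      (fun e => hc0 (Subtype.ext e))
    let t : ℕ → K := fun d => if h : ∃ m, ((l.cells.get k).2.get m).1 = d then (u h.choose : K) else 0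
    have hinj : ∀ m m', ((l.cells.get k).2.get m).1 = ((l.cells.get k).2.get m').1 → m = m' := by
      have hfst : ((l.cells.get k).2.map Prod.fst).Nodup := by
        have key : ∀ l : List ℕ, (l.flatMap orb).Nodup → l.Nodup := by
          intro l
          induction l with
          | nil => simp
          | cons x xs ih =>
            intro h
            rw [List.flatMap_cons] at h
            obtain ⟨-, h2, h3⟩ := List.nodup_append.1 h
            exact List.nodup_cons.2 ⟨fun hx => h3 x (mem_orb_self x).1 x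
              (List.mem_flatMap.2 ⟨x, hx, (mem_orb_self x).1⟩) rfl, ih h2⟩
        exact key _ hnd'
      intro m m' e
      have := @List.nodup_iff_injective_get.1 hfst (Fin.cast (List.length_map _).symm m)
        (Fin.cast (List.length_map _).symm m') (by simpa [List.get_eq_getElem, List.getElem_map] using e)
      exact Fin.ext (congrArg Fin.val this :)
    have ht : ∀ m, t ((l.cells.get k).2.get m).1 = (u m : K) := fun m => by
      have h : ∃ m', ((l.cells.get k).2.get m').1 = ((l.cells.get k).2.get m).1 := ⟨m, rfl⟩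
      simp only [t, dif_pos h]
      rw [hinj _ _ h.choose_spec]
    obtain ⟨w, hw, hwe⟩ := cell_spread C π hv hev hγP hR t (l.cells.get k).2
      (fun p hp => by
        obtain ⟨m, rfl⟩ := List.mem_iff_get.1 hp
        exact ⟨(hds _ hp).2.1, by rw [ht]; exact (u m).2⟩) (fun d hd => hd) hnd'
    have hval := spread_val hR hγP (c : K) (cellW C (l.cells.get k).2 t)
      (fun x hx => by rw [← cellW_fst C (l.cells.get k).2 t]; exact List.mem_map.2 ⟨x, hx, rfl⟩)
      (by rw [cellW_fst]; exact hnd')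
    refine ⟨w, _, hw, hwe, hval.2.1, hval.2.2.1, hval.1, fun m => ?_⟩
    obtain ⟨x, hx⟩ : ∃ x : K, x = (u m : K) := ⟨_, rfl⟩
    have htx := ht m
    have hxp : x ∈ par C ((l.cells.get k).2.get m).1 := hx ▸ (u m).2
    rw [← hx] at htx ⊢
    obtain ⟨p, hp⟩ : ∃ p, p = (l.cells.get k).2.get m := ⟨_, rfl⟩
    rw [← hp] at htx hxp ⊢
    have hpds : p ∈ (l.cells.get k).2 := hp ▸ List.get_mem _ _
    obtain ⟨hv1, -, -, hv2, hρρ, hsgn⟩ := hds p hpds
    have hpm : p ∈ cellMarks (l.cells.get k).2 := List.mem_flatMap.2 ⟨p, hpds, by split <;> simp⟩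
    have hmem : ∀ x ∈ orbW C p.1 (t p.1), x ∈ cellW C (l.cells.get k).2 t := fun x hx =>
      List.mem_flatMap.2 ⟨p, hpds, hx⟩
    have hroot : ∀ x ∈ orb p.1, x ∈ cellRoots (l.cells.get k).2 := fun x hx =>
      List.mem_flatMap.2 ⟨_, List.mem_map.2 ⟨p, hpds, rfl⟩, hx⟩
    obtain ⟨g1, g2, g3, g4⟩ := hM p hpm
    have hr1 := (hval.2.2.2 p.1 p.2 (hroot _ (mem_orb_self _).1) g1 g4 g2).2 (t p.1)
      (hmem _ (by rw [orbW]; split <;> simp))
    rw [htx] at hr1
    refine ⟨hr1, ?_⟩
    show _ = _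
    by_cases hρ : rho p.1 = p.1
    · have hρ2 : rho p.2 = p.2 := by
        simpa [hρ] using hρρ.symm
      rw [if_pos hρ] at hsgn
      have hu : C.f x = x := by
        have := hxp hρ
        rwa [hsgn.1, Int.cast_one, one_mul] at this
      rw [hρ2, hr1, hsgn.2, Int.cast_one, one_mul, map_mul, map_mul, map_intCast, hu, fq_fix]
    · rw [if_neg hρ] at hsgn
      have hpm' : (rho p.1, rho p.2) ∈ cellMarks (l.cells.get k).2 :=
        List.mem_flatMap.2 ⟨p, hpds, by rw [if_neg hρ]; simp⟩
      obtain ⟨f1, f2, -, f4⟩ := hM _ hpm'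
      have hr2 := (hval.2.2.2 (rho p.1) (rho p.2) (hroot _ (mem_orb_self _).2) f1 f4 f2).2
        ((parE6.eps p.1 : K) * C.f (t p.1)) (hmem _ (by rw [orbW, if_neg hρ]; simp))
      rw [htx] at hr2
      have hsK : (tb.nn (rho p.1) (rho p.2) : K) * (parE6.eps p.1 : K) =
          (parE6.eps p.2 : K) * (tb.nn p.1 p.2 : K) := by
        exact_mod_cast congrArg (Int.cast (R := K)) hsgn
      rw [hr2, hr1, ← mul_assoc, hsK, map_mul, map_mul, map_intCast, fq_fix]
      ring
  choose w a hw ha hp hh hγ hm using hex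
  have hcard : Fintype.card ι = l.count q := by
    simp only [ι, Fintype.card_sigma, Fintype.card_prod, Fintype.card_pi, Lev.count]
    rw [← List.sum_ofFn]
    congr 1
    conv_rhs => rw [← List.ofFn_get l.cells, List.map_ofFn]
    refine congrArg List.ofFn (funext fun k => ?_)
    simp only [Function.comp_apply]
    congr 1
    · rw [Fintype.card_subtype_compl, Fintype.card_subtype_eq, ← Nat.card_eq_fintype_card, card_fq]
    · obtain ⟨-, -, -, -, -, -, hds, -⟩ := hcell k
      rw [Finset.prod_congr rfl (g := fun m => q ^ (orb ((l.cells.get k).2.get m).1).length) fun m _ => by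
        rw [← Nat.card_eq_fintype_card, card_par C fun e => by
          have := (hds _ (List.get_mem _ m)).2.2.2.2.2
          rw [if_pos e] at this
          exact this.1],
        Finset.prod_pow_eq_pow_sum]
      congr 1
      rw [cellRoots, List.length_flatMap, ← List.sum_ofFn, List.map_map]
      congr 1
      conv_rhs => rw [← List.ofFn_get (l.cells.get k).2, List.map_ofFn]
      rfl
  rw [← hcard]
  have hlayer : ∀ r ∈ l.layer, validB r = true := hlv
  refine LieDegree.finrank_add_card_le (κ := Σ r : {r // r ∈ l.layer}, par C r.1)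
    (fun x => π (eltG C x.1.1 (x.2 : K))) w
    (fun i x => Psi K (lam (a i) (orbW C x.1.1 (x.2 : K)))) hw
    (fun i x => ha i x.1.1 (List.mem_append_right _ x.1.2) (hlayer _ x.1.2) _ x.2.2) ?_ (fun i => ?_)
    (fixedS_anti C π fun r hr => List.mem_append_left _ hr)
    (fun i => (mem_fixedS C π).2 fun r hr hval t ht => by
      rw [ha i r (List.mem_append_left _ hr) hval t ht, lam_congr C (b := fun _ => 0) fun k hk =>
        hp i k (List.mem_flatMap.2 ⟨r, hr, hk⟩), lam_zero C, AddChar.map_zero_eq_one, one_smul])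
    (fun x hx y => hx _ (List.mem_append_right _ y.1.2) (hlayer _ y.1.2) _ y.2.2)
  · intro i i' he
    have hθ : ∀ r ∈ l.layer, Inv C (a i) r → Inv C (a i') r → a i r = a i' r := fun r hr h1 h2 =>
      eq_of_psi C (hlayer r hr) h1 h2 fun t ht => congrFun he ⟨⟨r, hr⟩, t, ht⟩
    have hlay : ∀ k : Fin l.cells.length, (l.cells.get k).1 ∈ L := fun k =>
      List.mem_flatMap.2 ⟨_, (hcell k).1, (mem_orb_self _).1⟩
    have hinv : ∀ (j : ι) (k : Fin l.cells.length) (x : fq C), a j (l.cells.get k).1 = x →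
        Inv C (a j) (l.cells.get k).1 := fun j k x hx => by
      obtain ⟨-, -, -, hf, hee, -⟩ := hcell k
      show _ = _
      rw [hf, hee, Int.cast_one, one_mul, hx, fq_fix]
    have hk : i.1 = i'.1 := by
      suffices e : (l.cells.get i.1).1 = (l.cells.get i'.1).1 by
        have := @List.nodup_iff_injective_get.1 hnd (Fin.cast (List.length_map _).symm i.1)
          (Fin.cast (List.length_map _).symm i'.1)
          (by simpa [List.get_eq_getElem, List.getElem_map] using e)
        exact Fin.ext (congrArg Fin.val this :)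
      by_contra hne
      rcases Nat.lt_or_gt_of_ne hne with hlt | hgt
      · have h0 : a i (l.cells.get i'.1).1 = ((0 : fq C) : K) := hh i _ (hlay i'.1) hlt
        have := hθ _ (hcell i'.1).1 (hinv i i'.1 _ h0) (hinv i' i'.1 _ (hγ i'))
        rw [h0, hγ i'] at this
        exact i'.2.1.2 (Subtype.ext this.symm)
      · have h0 : a i' (l.cells.get i.1).1 = ((0 : fq C) : K) := hh i' _ (hlay i.1) hgt
        have := hθ _ (hcell i.1).1 (hinv i i.1 _ (hγ i)) (hinv i' i.1 _ h0)
        rw [h0, hγ i] at this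
        exact i.2.1.2 (Subtype.ext this)
    obtain ⟨k, ⟨c, hc0⟩, u⟩ := i
    obtain ⟨k', ⟨c', hc0'⟩, u'⟩ := i'
    obtain rfl : k = k' := hk
    have hcc : c = c' := by
      have := hθ _ (hcell k).1 (hinv _ k _ (hγ _)) (hinv _ k _ (hγ _))
      rw [hγ, hγ] at this
      exact Subtype.ext this
    subst hcc
    congr 2
    funext m
    obtain ⟨e1, h1⟩ := hm ⟨k, ⟨c, hc0⟩, u⟩ m
    obtain ⟨e2, h2⟩ := hm ⟨k, ⟨c, hc0⟩, u'⟩ m
    dsimp only at e1 e2 h1 h2
    obtain ⟨-, -, -, -, -, -, hds, -, hM⟩ := hcell k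
    have := hθ _ (hds _ (List.get_mem _ m)).2.2.1 h1 h2
    rw [e1, e2] at this
    obtain ⟨-, -, hn, -⟩ := hM ((l.cells.get k).2.get m) (List.mem_flatMap.2 ⟨_, List.get_mem _ m, by split <;> simp⟩)
    have hn0 : (tb.nn ((l.cells.get k).2.get m).1 ((l.cells.get k).2.get m).2 : K) ≠ 0 := by
      rcases hn with h | h <;> rw [h] <;> simp
    exact Subtype.ext (mul_left_cancel₀ hn0 (mul_right_cancel₀ (fun e => hc0 (Subtype.ext e)) this))
  · obtain ⟨hlay, -, hval, hf, hee, -⟩ := hcell i.1
    have hi : Inv C (a i) (l.cells.get i.1).1 := by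
      show _ = _
      rw [hf, hee, Int.cast_one, one_mul, hγ i, fq_fix]
    obtain ⟨t, ht, hne⟩ := psi_nondeg C hval hi
      (by rw [hγ i]; exact fun e => i.2.1.2 (Subtype.ext e))
    exact ⟨⟨⟨_, hlay⟩, t, ht⟩, hne⟩

end CfsgLib.Known.TwLieDegree
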