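/-
The layers for the count of the characters of ²E₆(q).
-/
import Mathlib
import Cfsg.Agent.Lib.Known.TwLieDegree.Levels

set_option autoImplicit false
set_option maxRecDepth 20000
set_option maxHeartbeats 1000000

namespace CfsgLib.Known.TwLieDegree

/-- The radical. -/
def lev1 : Lev where
  node := 46
  prev := [71]
  layer := [46, 47, 48, 49, 51, 52, 63, 53, 54, 55, 65, 66, 69, 70]
  steps := [(47, [⟨1, by decide⟩], 46), (51, [⟨2, by decide⟩], 47), (53, [⟨1, by decide⟩], 51),
    (63, [⟨3, by decide⟩], 51), (65, [⟨3, by decide⟩], 53), (69, [⟨2, by decide⟩], 65),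
    (70, [⟨1, by decide⟩], 69)]
  cells := [(46, []), (47, [(39, 46)]), (51, [(42, 48), (44, 46)]), (63, [(56, 52), (57, 49), (60, 46)]),
    (53, [(39, 51), (43, 48), (44, 47)]), (65, [(56, 54), (39, 63), (58, 49), (60, 47)]),
    (69, [(42, 66), (57, 55), (44, 63), (59, 52), (60, 51)]),
    (70, [(39, 69), (43, 66), (58, 55), (44, 65), (59, 54), (60, 53)])]

theorem lev1_chk : lev1.checkB = true := by decide +kernel

/-- The radical of the second parabolic. -/
def lev2 : Lev where
  node := 39
  prev := [71, 46, 47, 48, 49, 51, 52, 63, 53, 54, 55, 65, 66, 69, 70]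
  layer := [39, 40, 41, 44, 45, 60]
  steps := [(44, [⟨2, by decide⟩], 39), (60, [⟨3, by decide⟩], 44)]
  cells := [(39, []), (44, [(42, 40)]), (60, [(56, 45), (57, 41)])]

theorem lev2_chk : lev2.checkB = true := by decide +kernel

end CfsgLib.Known.TwLieDegree
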