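/-
The minimal degree of ²E₆(q).
-/
import Mathlib
import Cfsg.Agent.Lib.Known.TwLieDegree.Cert
import Cfsg.Agent.Lib.Known.TwLieDegree.Arith
import Cfsg.Agent.Lib.Known.LieDegree.Count
import Cfsg.Agent.Lib.Char.Integral

set_option autoImplicit false
set_option maxRecDepth 20000
set_option maxHeartbeats 1000000

namespace CfsgLib.Known.TwLieDegree

open Cfsg.Lie CfsgLib.Chev CfsgLib.Known.LieDegree

universe v

/-- The exponents of the count. -/
def lens : List ℕ := (lev1.cells ++ lev2.cells).map fun c => (cellRoots c.2).length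

/-- The coefficient list of the count plus the slack. -/
def totalL : List ℤ := padd (pmul [-1, 1] (padd (mono 10) (monoSum lens))) [2]

theorem total_chk : peqB totalL bndL = true := by decide +kernel

theorem stack_chk : hdata.ab.length = 11 ∧ lev1.prev = [hdata.z] ∧ lev2.prev = lev1.all ∧
    lev1.node = 46 ∧ lev2.node = 39 := by decide +kernel

theorem count_eq (q : ℕ) :
    lev1.count q + lev2.count q = (q - 1) * (lens.map fun n => q ^ n).sum := by
  rw [Lev.count, Lev.count, ← List.sum_append, ← List.map_append, lens, List.map_map]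
  exact List.sum_map_mul_left (lev1.cells ++ lev2.cells) (fun c => q ^ (cellRoots c.2).length) (q - 1)

theorem total_eq {q : ℕ} (hq : 1 ≤ q) :
    (q - 1) * q ^ 10 + (lev1.count q + lev2.count q) + 2 = bnd q := by
  have e := pev_eq total_chk (q : ℤ)
  rw [bndL_eval hq, totalL, pev_padd, pev_pmul, pev_padd, pev_mono, pev_monoSum] at e
  simp only [pev] at e
  have : (((q - 1) * q ^ 10 + (lev1.count q + lev2.count q) + 2 : ℕ) : ℤ) = bnd q := by
    rw [← e, count_eq]
    push_cast [Nat.cast_sub hq, Nat.cast_list_sum, List.map_map, Function.comp_def]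
    ring
  exact_mod_cast this

variable {K : Type v} [Field K] [Fintype K] {q : ℕ}

/-- The dimension of a faithful representation. -/
theorem dim_bound (C : TwE6.Ctx K q) {V : Type*} [AddCommGroup V] [Module ℂ V]
    (π : Representation ℂ ↥(twistedE6 K q) V) [FiniteDimensional ℂ V] (hinj : Function.Injective π) :
    bnd q ≤ Module.finrank ℂ V + 2 := by
  have hq : 2 ≤ q := C.q_gt
  obtain ⟨r, hr1, hr, hdim, hlow⟩ := finrank_fixed_z C hfacts π hinj
  obtain ⟨hlen, hp1, hp2, hn1, hn2⟩ := stack_chk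
  rw [hlen] at hdim hlow
  norm_num at hdim hlow
  rcases Nat.lt_or_ge r 2 with hlt | hge
  · obtain rfl : r = 1 := by omega
    rw [one_mul] at hdim
    have ha : LineAt C π 46 := lineAt_a C π fun θ h => hr θ (Or.inr h)
    have hb : LineAt C π 39 := lineAt_b C π ha
    have b1 := level_bound C π lev1_chk (hn1 ▸ ha)
    have b2 := level_bound C π lev2_chk (hn2 ▸ hb)
    rw [hp1] at b1
    rw [hp2] at b2
    have := total_eq (show 1 ≤ q by omega)
    omega
  · have h1 := (bnd_bounds hq).1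
    obtain ⟨a, rfl⟩ : ∃ a, q = a + 2 := ⟨q - 2, by omega⟩
    simp only [show a + 2 - 1 = a + 1 from rfl] at hdim hlow
    have e : (a + 2) ^ 11 ≤ 2 * ((a + 1) * (a + 2) ^ 10 + (a + 1) * (a + 2) ^ 9) := by
      have e1 : (a + 2) ^ 11 = (a + 2) ^ 2 * (a + 2) ^ 9 := by ring
      have e2 : 2 * ((a + 1) * (a + 2) ^ 10 + (a + 1) * (a + 2) ^ 9) =
          (2 * ((a + 1) * (a + 3))) * (a + 2) ^ 9 := by ring
      rw [e1, e2]
      exact Nat.mul_le_mul_right _ (by nlinarith)
    have g1 := Nat.mul_le_mul_right ((a + 1) * (a + 2) ^ 10) hge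
    have g2 := Nat.mul_le_mul_right ((a + 1) * (a + 2) ^ 9) hge
    omega

/-- The lower bound. -/
theorem le_dim_irr (C : TwE6.Ctx K q) (hqp : IsPrimePow q) {k : ℕ}
    (ρ : Representation ℂ ↥(twistedE6 K q) (Fin k → ℂ)) (hirr : ρ.IsIrreducible) (hk : 2 ≤ k) :
    bnd q ≤ k := by
  haveI : IsSimpleGroup ↥(twistedE6 K q) := C.simple_twisted.1
  have hb := dim_bound C ρ (injective_of_simple ρ hirr hk)
  rw [Module.finrank_fin_fun] at hb
  have hq : 2 ≤ q := C.q_gt
  by_contra hlt
  obtain ⟨j, hj1, hj2, hkj⟩ : ∃ j, 1 ≤ j ∧ j ≤ 2 ∧ k = bnd q - j :=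
    ⟨bnd q - k, by omega, by omega, by omega⟩
  haveI := hirr
  letI := Fintype.ofFinite ↥(twistedE6 K q)
  have hdvd : k ∣ q ^ 36 * ordP q := by
    have h1 := CfsgLib.Char.degree_dvd_card' ρ
    rw [Module.finrank_fin_fun] at h1
    refine h1.trans (Dvd.intro_left (Nat.gcd 3 (q + 1)) ?_)
    rw [C.card_twisted]
    simp only [ordP]
    ring
  rcases Nat.lt_or_ge j q with hjq | hjq
  · refine not_dvd_mul hq hj1 hj2 (hkj ▸ dvd_mul_of_dvd_pow_mul hqp hj1 hjq ?_ hdvd)
    rw [hkj, Nat.sub_add_cancel (by omega), bnd]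
    exact (dvd_mul_right q _).mul_right _
  · obtain rfl : q = 2 := by omega
    obtain rfl : j = 2 := by omega
    exact tiny (hkj ▸ hdvd)

end CfsgLib.Known.TwLieDegree
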